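import Cfsg.Agent.Lib.A5Radical.Section
import Cfsg.Agent.Lib.Coprime.Commutator
import Cfsg.Agent.Lib.PGroup.Basic

/-!
The common setting: a normal 2-subgroup `Q` with quotient `A₅`, self-centralising, sectional 2-rank four.
-/

set_option autoImplicit false
set_option linter.unusedSectionVars false
set_option linter.style.haveILetI false

namespace Cfsg.Agent.A5Radical

variable {Y : Type*} [Group Y]

/-- The commutator `a⁻¹ b⁻¹ a b`. -/
def cm (a b : Y) : Y := a⁻¹ * b⁻¹ * a * b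

theorem cm_eq_one {a b : Y} : cm a b = 1 ↔ a * b = b * a := by
  rw [cm, mul_assoc, mul_eq_one_iff_eq_inv, ← inv_inj, inv_inv]
  simp [mul_inv_rev, eq_comm]

theorem map_cm {Z : Type*} [Group Z] (φ : Y →* Z) (a b : Y) : φ (cm a b) = cm (φ a) (φ b) := by simp [cm]

theorem cm_eq_squares (a b : Y) : cm a b = (a⁻¹ * a⁻¹) * ((a * b⁻¹) * (a * b⁻¹)) * (b * b) := by
  simp [cm, mul_assoc]

/-- Squares of `K` together with commutators of `K` and `Q`. -/
def rad (Q K : Subgroup Y) : Subgroup Y :=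
  Subgroup.closure ({x | ∃ k ∈ K, x = k * k} ∪ {x | ∃ k ∈ K, ∃ q ∈ Q, x = cm k q})

theorem sq_mem_rad {Q K : Subgroup Y} {k : Y} (hk : k ∈ K) : k * k ∈ rad Q K :=
  Subgroup.subset_closure (Or.inl ⟨k, hk, rfl⟩)

theorem cm_mem_rad {Q K : Subgroup Y} {k q : Y} (hk : k ∈ K) (hq : q ∈ Q) : cm k q ∈ rad Q K :=
  Subgroup.subset_closure (Or.inr ⟨k, hk, q, hq, rfl⟩)

theorem rad_le (Q K : Subgroup Y) [K.Normal] : rad Q K ≤ K :=
  (Subgroup.closure_le _).2 (by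
    rintro x (⟨k, hk, rfl⟩ | ⟨k, hk, q, -, rfl⟩)
    · exact mul_mem hk hk
    · rw [cm, mul_assoc, mul_assoc k⁻¹, ← mul_assoc q⁻¹]
      exact mul_mem (inv_mem hk) ((inferInstance : K.Normal).conj_mem' k hk q))

theorem rad_normal (Q K : Subgroup Y) [Q.Normal] [K.Normal] : (rad Q K).Normal := by
  refine ⟨fun x hx g => ?_⟩
  have hle : rad Q K ≤ (rad Q K).comap (MulAut.conj g).toMonoidHom := (Subgroup.closure_le _).2 (by
    rintro y (⟨k, hk, rfl⟩ | ⟨k, hk, q, hq, rfl⟩)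
    · show MulAut.conj g (k * k) ∈ rad Q K
      rw [map_mul]
      exact sq_mem_rad ((inferInstance : K.Normal).conj_mem k hk g)
    · show (MulAut.conj g).toMonoidHom (cm k q) ∈ rad Q K
      rw [map_cm]
      exact cm_mem_rad ((inferInstance : K.Normal).conj_mem k hk g) ((inferInstance : Q.Normal).conj_mem q hq g))
  exact hle hx

theorem rad_ne [Finite Y] (Q K : Subgroup Y) [Q.Normal] [K.Normal] (hQ2 : IsPGroup 2 Q) (hKQ : K ≤ Q)
    (hK : K ≠ ⊥) : rad Q K ≠ K := by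
  haveI : Fact (Nat.Prime 2) := ⟨Nat.prime_two⟩
  intro he
  let good : Subgroup Q → Prop := fun M => M.Normal ∧ M < K.subgroupOf Q
  have hKne : K.subgroupOf Q ≠ ⊥ := fun e => hK (by
    rw [Subgroup.subgroupOf_eq_bot, disjoint_iff, inf_eq_left.2 hKQ] at e
    exact e)
  obtain ⟨M, ⟨hMn, hMK⟩, hmax⟩ : ∃ M, good M ∧ ∀ M', good M' → M ≤ M' → M' ≤ M := by
    obtain ⟨M, -, hM⟩ := (Set.toFinite {M | good M}).exists_le_maximal (a := (⊥ : Subgroup Q))
      ⟨inferInstance, bot_lt_iff_ne_bot.2 hKne⟩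
    exact ⟨M, hM.1, fun M' h' hle => hM.2 h' hle⟩
  haveI := hMn
  let π := QuotientGroup.mk' M
  have hKn : ((K.subgroupOf Q).map π).Normal :=
    Subgroup.Normal.map inferInstance _ (QuotientGroup.mk'_surjective M)
  haveI := hKn
  have hKbar : (K.subgroupOf Q).map π ≠ ⊥ := fun e => hMK.not_ge fun k hk => by
    rw [← QuotientGroup.eq_one_iff]
    exact (Subgroup.mem_bot (G := Q ⧸ M)).1 (e ▸ ⟨k, hk, rfl⟩)
  obtain ⟨⟨z, hz⟩, hz1⟩ := Subgroup.ne_bot_iff_exists_ne_one.1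
    (PGroup.inf_center_ne_bot (hQ2.to_quotient M) _ hKbar)
  have hz1' : z ≠ 1 := fun e => hz1 (Subtype.ext e)
  -- an element of order two there
  obtain ⟨z2, hz2, hz21, hz22⟩ : ∃ w ∈ (K.subgroupOf Q).map π ⊓ Subgroup.center (Q ⧸ M), w ≠ 1 ∧ w * w = 1 := by
    obtain ⟨k, hk⟩ := (hQ2.to_quotient M) z
    induction k generalizing z with
    | zero => exact absurd (by simpa using hk) hz1'
    | succ k ih =>
      by_cases hzz : z * z = 1
      · exact ⟨z, hz, hz1', hzz⟩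
      · exact ih (z * z) (mul_mem hz hz) (fun e => hzz (congrArg Subtype.val e)) hzz
          (by rw [← pow_two, ← pow_mul, ← pow_succ']; exact hk)
  let Z2 : Subgroup (Q ⧸ M) := Subgroup.zpowers z2
  have hZ2n : Z2.Normal := ⟨fun x hx g => by
    have hxc : x ∈ Subgroup.center (Q ⧸ M) := (Subgroup.zpowers_le.2 hz2.2) hx
    rw [Subgroup.mem_center_iff.1 hxc g, mul_inv_cancel_right]
    exact hx⟩
  have hM' : K.subgroupOf Q ≤ Z2.comap π := by
    by_contra hcon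
    have hle : M ≤ Z2.comap π := fun m hm => by
      rw [Subgroup.mem_comap, show π m = 1 from (QuotientGroup.eq_one_iff m).2 hm]
      exact one_mem _
    have hlt : Z2.comap π ⊓ K.subgroupOf Q < K.subgroupOf Q :=
      lt_of_le_of_ne inf_le_right fun e => hcon (e ▸ inf_le_left)
    have h1 := hmax _ ⟨inferInstance, hlt⟩ (le_inf hle hMK.le)
    obtain ⟨w, hw, hwz⟩ := hz2.1
    refine hz21 ?_
    rw [← hwz]
    refine (QuotientGroup.eq_one_iff w).2 (h1 ⟨?_, hw⟩)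
    show π w ∈ Z2
    rw [hwz]
    exact Subgroup.mem_zpowers z2
  have hall : ∀ k ∈ K, ∀ hk : k ∈ Q, π ⟨k, hk⟩ ∈ Z2 := fun k hk hk' => hM' (x := ⟨k, hk'⟩) hk
  have hZ2c : ∀ w ∈ Z2, ∀ g : Q ⧸ M, g * w = w * g := fun w hw g =>
    Subgroup.mem_center_iff.1 ((Subgroup.zpowers_le.2 hz2.2) hw) g
  have hZ2e : ∀ w ∈ Z2, w * w = 1 := fun w hw => by
    obtain ⟨i, rfl⟩ := Subgroup.mem_zpowers_iff.1 hw
    rw [← (Commute.refl z2).mul_zpow, hz22, one_zpow]
  have hsub : rad Q K ≤ M.map Q.subtype := (Subgroup.closure_le _).2 (by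
    rintro x (⟨k, hk, rfl⟩ | ⟨k, hk, q, hq, rfl⟩)
    · refine ⟨⟨k, hKQ hk⟩ * ⟨k, hKQ hk⟩, (QuotientGroup.eq_one_iff _).1 ?_, rfl⟩
      exact hZ2e _ (hall k hk (hKQ hk))
    · refine ⟨cm ⟨k, hKQ hk⟩ ⟨q, hq⟩, (QuotientGroup.eq_one_iff _).1 ?_, map_cm Q.subtype _ _⟩
      refine (map_cm π _ _).trans (cm_eq_one.2 (hZ2c _ (hall k hk (hKQ hk)) _).symm))
  refine hMK.not_ge fun k hk => ?_
  obtain ⟨m, hm, e⟩ := hsub (he.ge (show (k : Y) ∈ K from hk))
  rwa [← Subtype.ext e]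

/-- A subgroup of exponent two has order at most 16. -/
theorem card_le_sixteen {G : Type*} [Group G] (hsr : Cfsg.SectionalPRankLE 2 4 G) (N : Subgroup G)
    (hexp : ∀ v ∈ N, v * v = 1) : Nat.card N ≤ 16 := by
  have hcq : ∀ a b : N ⧸ (⊥ : Subgroup N), a * b = b * a := fun a b => by
    obtain ⟨a, rfl⟩ := QuotientGroup.mk'_surjective _ a
    obtain ⟨b, rfl⟩ := QuotientGroup.mk'_surjective _ b
    rw [← map_mul, ← map_mul, ThreeInvol.comm_of_sq (V := N) (fun v => Subtype.ext (hexp v v.2)) a b]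
  have hb := hsr N ⊥ ⊤ ⟨⟨fun a b => Subtype.ext (hcq a.1 b.1)⟩⟩ (fun a _ => by
    obtain ⟨a, rfl⟩ := QuotientGroup.mk'_surjective _ a
    rw [← map_pow, show a ^ 2 = 1 from Subtype.ext (by rw [pow_two]; exact hexp a a.2), map_one])
  rwa [Subgroup.card_top, Nat.card_congr QuotientGroup.quotientBot.toEquiv] at hb

/-- Sectional rank passes to images. -/
theorem sectional_map {G H : Type*} [Group G] [Group H] (π : G →* H) (hπ : Function.Surjective π)
    {p k : ℕ} (h : Cfsg.SectionalPRankLE p k G) : Cfsg.SectionalPRankLE p k H := by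
  intro K N hN A hA hexp
  haveI := hN
  let r : K.comap π →* K := (π.comp (K.comap π).subtype).codRestrict K fun x => x.2
  let ψ : K.comap π →* K ⧸ N := (QuotientGroup.mk' N).comp r
  have hψ : Function.Surjective ψ := fun q => by
    obtain ⟨⟨y, hy⟩, rfl⟩ := QuotientGroup.mk'_surjective N q
    obtain ⟨x, rfl⟩ := hπ y
    exact ⟨⟨x, hy⟩, rfl⟩
  let e := QuotientGroup.quotientKerEquivOfSurjective ψ hψ
  have hB := h (K.comap π) ψ.ker (A.map e.symm.toMonoidHom)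
    ⟨⟨fun ⟨_, a, ha, rfl⟩ ⟨_, b, hb, rfl⟩ => Subtype.ext (by
      show e.symm a * e.symm b = e.symm b * e.symm a
      rw [← map_mul, ← map_mul, show a * b = b * a from congrArg Subtype.val (hA.is_comm.comm ⟨a, ha⟩ ⟨b, hb⟩)])⟩⟩
    (by rintro _ ⟨a, ha, rfl⟩; rw [← map_pow, hexp a ha, map_one])
  rwa [Subgroup.card_map_of_injective e.symm.injective] at hB

/-- The setting. -/
structure Ctx (Q : Subgroup Y) (φ : Y →* alternatingGroup (Fin 5)) : Prop where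
  surj : Function.Surjective φ
  ker : φ.ker = Q
  two : IsPGroup 2 Q
  cent : Subgroup.centralizer (Q : Set Y) ≤ Q
  rank : Cfsg.SectionalPRankLE 2 4 Y

/-- The involution `(0 1)(2 3)`. -/
def e0 : alternatingGroup (Fin 5) := ⟨Equiv.swap 0 1 * Equiv.swap 2 3, Equiv.Perm.mem_alternatingGroup.2 (by decide)⟩

/-- The conjugating element `(1 2)(3 4)`. -/
def g0 : alternatingGroup (Fin 5) := ⟨Equiv.swap 1 2 * Equiv.swap 3 4, Equiv.Perm.mem_alternatingGroup.2 (by decide)⟩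

theorem f0_facts : (e0 * (g0 * e0 * g0⁻¹)) ^ 5 = 1 ∧ e0 * (g0 * e0 * g0⁻¹) ≠ 1 ∧ e0 ≠ 1 ∧ e0 * e0 = 1 := by
  decide +kernel

namespace Ctx

variable [Finite Y] {Q : Subgroup Y} {φ : Y →* alternatingGroup (Fin 5)} (h : Ctx Q φ)
include h

theorem normal : Q.Normal := h.ker ▸ inferInstance

theorem exists_lifts : ∃ e g : Y, φ e = e0 ∧ φ g = g0 := by
  obtain ⟨e, he⟩ := h.surj e0
  obtain ⟨g, hg⟩ := h.surj g0
  exact ⟨e, g, he, hg⟩

theorem lift_facts {e g : Y} (he : φ e = e0) (hg : φ g = g0) :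
    (e * (g * e * g⁻¹)) ^ 5 ∈ Q ∧ e * (g * e * g⁻¹) ∉ Q ∧ e ∉ Q ∧ e * e ∈ Q := by
  obtain ⟨h1, h2, h3, h4⟩ := f0_facts
  rw [← h.ker]
  simp only [MonoidHom.mem_ker, map_pow, map_mul, map_inv, he, hg]
  exact ⟨h1, h2, h3, h4⟩

/-- A normal subgroup above `Q` is `Q` or everything. -/
theorem top_of_mem (M : Subgroup Y) [M.Normal] (hQM : Q ≤ M) {f : Y} (hf : f ∈ M) (hfQ : f ∉ Q) : M = ⊤ := by
  haveI : IsSimpleGroup (alternatingGroup (Fin 5)) := alternatingGroup.isSimpleGroup (by simp)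
  haveI : (M.map φ).Normal := Subgroup.Normal.map inferInstance _ h.surj
  have htop : M.map φ = ⊤ := ((inferInstance : (M.map φ).Normal).eq_bot_or_eq_top).resolve_left fun e => hfQ (by
    rw [← h.ker]
    exact (Subgroup.mem_bot (G := alternatingGroup (Fin 5))).1 (e ▸ ⟨f, hf, rfl⟩))
  refine eq_top_iff.2 fun y _ => ?_
  obtain ⟨m, hm, hmy⟩ := (htop ▸ Subgroup.mem_top (φ y) : φ y ∈ M.map φ)
  have h1 : m⁻¹ * y ∈ M := hQM (by rw [← h.ker, MonoidHom.mem_ker, map_mul, map_inv, hmy, inv_mul_cancel])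
  have := mul_mem hm h1
  rwa [mul_inv_cancel_left] at this

/-- An element of order five modulo `Q` is non-trivial on `Q` modulo `rad Q Q`. -/
theorem nontrivial_top {f : Y} (hf5 : f ^ 5 ∈ Q) (hfQ : f ∉ Q) :
    ∃ x ∈ Q, cm f x ∉ rad Q Q := by
  haveI : Fact (Nat.Prime 2) := ⟨Nat.prime_two⟩
  haveI := h.normal
  by_contra hcon
  push Not at hcon
  obtain ⟨j, hj⟩ := h.two ⟨f ^ 5, hf5⟩
  have hj' : (f ^ 5) ^ 2 ^ j = 1 := congrArg Subtype.val hj
  set d := f ^ 2 ^ j with hd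
  have hd5 : d ^ 5 = 1 := by rw [hd, ← pow_mul, mul_comm, pow_mul, hj']
  have hP : rad Q Q ≤ (frattini Q).map Q.subtype := by
    have hsq : ∀ x ∈ Q, x * x ∈ (frattini Q).map Q.subtype := fun x hx =>
      ⟨⟨x, hx⟩ ^ 2, PGroup.pow_mem_frattini h.two _, by simp [pow_two]⟩
    refine (Subgroup.closure_le _).2 ?_
    rintro x (⟨k, hk, rfl⟩ | ⟨k, hk, q, hq, rfl⟩)
    · exact hsq k hk
    · rw [cm_eq_squares]
      exact mul_mem (mul_mem (hsq _ (inv_mem hk)) (hsq _ (mul_mem hk (inv_mem hq)))) (hsq _ hq)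
  haveI := rad_normal Q Q
  have hdC : ∀ x ∈ Q, cm d x ∈ rad Q Q := fun x hx => by
    let π := QuotientGroup.mk' (rad Q Q)
    have hc : Commute (π f) (π x) := cm_eq_one.1 ((map_cm π f x).symm.trans ((QuotientGroup.eq_one_iff _).2 (hcon x hx)))
    refine (QuotientGroup.eq_one_iff _).1 ?_
    show π (cm d x) = 1
    rw [map_cm, hd, map_pow]
    exact cm_eq_one.2 (hc.pow_left _)
  have hdQ : d ∈ Subgroup.centralizer (Q : Set Y) := by
    refine Coprime.le_centralizer_of_frattini (A := Subgroup.zpowers d) (K := Q)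
      (by rw [Subgroup.normalizer_eq_top]; exact le_top) ?_ ?_ (Subgroup.mem_zpowers _)
    · obtain ⟨i, hi⟩ := IsPGroup.iff_card.1 (h.two.to_subgroup (frattini Q))
      rw [Nat.card_zpowers, hi]
      exact (Nat.Coprime.coprime_dvd_left (orderOf_dvd_of_pow_eq_one hd5) (by norm_num)).pow_right i
    · intro a ha q hq
      refine hP ?_
      let π := QuotientGroup.mk' (rad Q Q)
      have hc : Commute (π d) (π q) := cm_eq_one.1 ((map_cm π d q).symm.trans ((QuotientGroup.eq_one_iff _).2 (hdC q hq)))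
      obtain ⟨i, rfl⟩ := Subgroup.mem_zpowers_iff.1 ha
      refine (QuotientGroup.eq_one_iff _).1 ?_
      show π (d ^ i * q * (d ^ i)⁻¹ * q⁻¹) = 1
      rw [map_mul, map_mul, map_mul, map_inv, map_inv, map_zpow, (hc.zpow_left i).eq, mul_inv_cancel_right,
        mul_inv_cancel]
  have hdker : φ d = 1 := by rw [← MonoidHom.mem_ker, h.ker]; exact h.cent hdQ
  apply hfQ
  rw [← h.ker, MonoidHom.mem_ker]
  have hf5' : φ f ^ 5 = 1 := by rw [← map_pow, ← MonoidHom.mem_ker, h.ker]; exact hf5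
  have hdk : φ f ^ 2 ^ j = 1 := by rw [← map_pow]; exact hdker
  rw [← orderOf_eq_one_iff]
  exact Nat.eq_one_of_dvd_coprimes ((by norm_num : Nat.Coprime 2 5).pow_left j)
    (orderOf_dvd_of_pow_eq_one hdk) (orderOf_dvd_of_pow_eq_one hf5')

/-- A layer `L ≤ K` on which `f` acts non-trivially. -/
theorem layer {Z : Type*} [Group Z] [Finite Z] (ψ : Y →* Z) (hψ : Function.Surjective ψ) {K : Subgroup Y}
    [K.Normal] (hsq : ∀ k ∈ K, k * k ∈ ψ.ker) (hQc : ∀ k ∈ K, ∀ q ∈ Q, cm k q ∈ ψ.ker) {e g : Y}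
    (he : φ e = e0) (hg : φ g = g0) (hne : ∃ k ∈ K, cm (e * (g * e * g⁻¹)) k ∉ ψ.ker) :
    Nat.card (K.map ψ) = 16 ∧ (∀ v ∈ K.map ψ, ψ (e * (g * e * g⁻¹)) * v = v * ψ (e * (g * e * g⁻¹)) → v = 1) ∧
      Nat.card (Cfix (K.map ψ) (ψ e)) = 4 := by
  obtain ⟨hf5, hfQ, heQ, hee⟩ := h.lift_facts he hg
  set f := e * (g * e * g⁻¹) with hf
  haveI : (K.map ψ).Normal := Subgroup.Normal.map inferInstance _ hψ
  have hexp : ∀ v ∈ K.map ψ, v * v = 1 := by
    rintro _ ⟨k, hk, rfl⟩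
    rw [← map_mul]
    exact hsq k hk
  have hcen : ∀ q ∈ Q, ∀ v ∈ K.map ψ, ψ q * v = v * ψ q := by
    rintro q hq _ ⟨k, hk, rfl⟩
    exact (cm_eq_one.1 ((map_cm ψ k q).symm.trans (hQc k hk q hq))).symm
  obtain ⟨k, hk, hkne⟩ := hne
  obtain ⟨h16, hfree⟩ := five_fix (K.map ψ) hexp (card_le_sixteen (sectional_map ψ hψ h.rank) _ hexp) (ψ f)
    (fun v hv => by rw [← map_pow]; exact hcen _ hf5 v hv)
    ⟨ψ k, ⟨k, hk, rfl⟩, fun e1 => hkne ((map_cm ψ f k).trans (cm_eq_one.2 e1))⟩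
  refine ⟨h16, hfree, four_fix (K.map ψ) hexp h16 (ψ e) (ψ g) (fun v hv => by
    rw [← map_mul]; exact hcen _ hee v hv) fun v hv e1 => hfree v hv ?_⟩
  rw [hf]
  simpa only [map_mul, map_inv] using e1

end Ctx

end Cfsg.Agent.A5Radical
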