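import Cfsg.Agent.Lib.A5Radical.Forms

/-!
An `A₅`-invariant quadratic map on an irreducible module of order 16: its values are `1, b`, and there are
five singular vectors with pairwise value `b`.
-/

set_option autoImplicit false
set_option linter.unusedSectionVars false
set_option linter.style.haveILetI false

namespace Cfsg.Agent.A5Radical

/-- Two-element values. -/
theorem exists_hom_two {U : Type*} [CommGroup U] [Finite U] (hU : ∀ u : U, u * u = 1) (hne : ∃ u : U, u ≠ 1) :
    ∃ χ : U → ZMod 2, (∀ a b, χ (a * b) = χ a + χ b) ∧ ∃ u, χ u = 1 := by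
  classical
  obtain ⟨M, hM1, hMmax⟩ : ∃ M : Subgroup U, M ≠ ⊤ ∧ ∀ M', M' ≠ ⊤ → M ≤ M' → M' ≤ M := by
    obtain ⟨u, hu⟩ := hne
    have hb : (⊥ : Subgroup U) ≠ ⊤ := fun e => hu (Subgroup.mem_bot.1 (e ▸ Subgroup.mem_top u))
    obtain ⟨M, -, hM⟩ := (Set.toFinite {M : Subgroup U | M ≠ ⊤}).exists_le_maximal (a := ⊥) hb
    exact ⟨M, hM.1, fun M' h' hle => hM.2 h' hle⟩
  obtain ⟨u0, hu0⟩ : ∃ u, u ∉ M := by
    by_contra hc
    push Not at hc
    exact hM1 (eq_top_iff.2 fun u _ => hc u)
  have hout : ∀ a b, a ∉ M → b ∉ M → a * b ∈ M := by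
    intro a b ha hb
    have htop : M ⊔ Subgroup.zpowers a = ⊤ := by
      by_contra hne'
      exact ha (hMmax _ hne' le_sup_left (Subgroup.mem_sup_right (Subgroup.mem_zpowers a)))
    obtain ⟨m, hm, w, hw, rfl⟩ := Subgroup.mem_sup.1 (htop ▸ Subgroup.mem_top b)
    obtain ⟨k, rfl⟩ := Subgroup.mem_zpowers_iff.1 hw
    have ha2 : a ^ (2 : ℤ) = 1 := by rw [zpow_two, hU]
    rcases Int.even_or_odd k with ⟨l, rfl⟩ | ⟨l, rfl⟩
    · rw [← two_mul, zpow_mul, ha2, one_zpow, mul_one] at hb
      exact absurd hm hb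
    · rw [zpow_add, zpow_mul, ha2, one_zpow, one_mul, zpow_one, mul_left_comm, hU, mul_one]
      exact hm
  refine ⟨fun u => if u ∈ M then 0 else 1, fun a b => ?_, u0, if_neg hu0⟩
  by_cases ha : a ∈ M <;> by_cases hb : b ∈ M
  · simp [ha, hb, mul_mem ha hb]
  · have : a * b ∉ M := fun h => hb ((Subgroup.mul_mem_cancel_left M ha).1 h)
    simp [ha, hb, this]
  · have : a * b ∉ M := fun h => ha ((Subgroup.mul_mem_cancel_right M hb).1 h)
    simp [ha, hb, this]
  · simp [ha, hb, hout a b ha hb]; decide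

theorem two_transitive_five : ∀ i j : Fin 5, i ≠ j → ∃ σ : alternatingGroup (Fin 5),
    (σ : Equiv.Perm (Fin 5)) i = 0 ∧ (σ : Equiv.Perm (Fin 5)) j = 1 := by
  decide +kernel

variable {Y V U : Type*} [Group Y] [CommGroup V] [CommGroup U] [Finite U]

/-- The hypotheses on the quadratic map. -/
structure QMap (φ : Y →* alternatingGroup (Fin 5)) (cj : Y →* MulAut V) (f : Y) (s : V → U) (β : V → V → U) :
    Prop where
  surj : Function.Surjective φ
  card : Nat.card V = 16
  hV : ∀ v : V, v * v = 1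
  hU : ∀ u : U, u * u = 1
  triv : ∀ y ∈ φ.ker, cj y = 1
  five : f ^ 5 ∈ φ.ker
  free : ∀ v, cj f v = v → v = 1
  dich : ∀ W : Subgroup V, (∀ y, ∀ v ∈ W, cj y v ∈ W) → W = ⊥ ∨ W = ⊤
  mul : ∀ v w, s (v * w) = s v * s w * β v w
  bil : ∀ u v w, β (u * v) w = β u w * β v w
  inv : ∀ y v, s (cj y v) = s v
  gen : ∀ W : Subgroup U, (∀ v, s v ∈ W) → W = ⊤
  nontriv : ∃ u : U, u ≠ 1

/-- The conclusion. -/
theorem exists_five [Finite V] {φ : Y →* alternatingGroup (Fin 5)} {cj : Y →* MulAut V} {f : Y} {s : V → U}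
    {β : V → V → U} (H : QMap φ cj f s β) :
    ∃ (b : U) (v : Fin 5 → V), b ≠ 1 ∧ (∀ u, u = 1 ∨ u = b) ∧ (∀ i, s (v i) = 1) ∧
      (∀ i j, i ≠ j → β (v i) (v j) = b) ∧ Subgroup.closure (Set.range v) = ⊤ ∧
      v 0 * v 1 * v 2 * v 3 * v 4 = 1 ∧ (∀ u, u ≠ 1 → ∃ w, β u w ≠ 1) := by
  classical
  haveI : Fact (Nat.Prime 5) := ⟨by norm_num⟩
  letI : Fintype V := Fintype.ofFinite V
  obtain ⟨χ, hχm, u1, hu1⟩ := exists_hom_two H.hU H.nontriv
  have h01 : ∀ a : ZMod 2, a = 0 ∨ a = 1 := by decide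
  have hadd : ∀ a b : ZMod 2, a + b = 0 → a = b := by decide
  have hdbl : ∀ a : ZMod 2, a + a = 0 := by decide
  have hχ1 : χ 1 = 0 := by
    have := hχm 1 1
    rw [one_mul] at this
    exact left_eq_add.mp this
  have hβ1 : ∀ w, β 1 w = 1 := fun w => by
    have := H.bil 1 1 w
    rw [one_mul] at this
    exact left_eq_mul.1 this
  have hsym : ∀ u w, β u w = β w u := fun u w => by
    have e1 := H.mul u w
    rw [mul_comm u w, H.mul, mul_comm (s w) (s u)] at e1
    exact (mul_left_cancel e1).symm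
  have hβinv : ∀ y v w, β (cj y v) (cj y w) = β v w := fun y v w => by
    have e1 := H.mul (cj y v) (cj y w)
    rw [← map_mul, H.inv, H.inv, H.inv, H.mul] at e1
    exact (mul_left_cancel e1).symm
  let q : V → ZMod 2 := fun v => χ (s v)
  have hqβ : ∀ v w, q (v * w) + q v + q w = χ (β v w) := fun v w => by
    show χ (s (v * w)) + χ (s v) + χ (s w) = _
    rw [H.mul, hχm, hχm]
    linear_combination hdbl (χ (s v)) + hdbl (χ (s w))
  -- non-degeneracy
  let Rad : Subgroup V :=
    { carrier := {u | ∀ w, χ (β u w) = 0}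
      one_mem' := fun w => by rw [hβ1, hχ1]
      mul_mem' := fun {a b} ha hb w => by rw [H.bil, hχm, ha, hb, add_zero]
      inv_mem' := fun {a} ha => by rw [inv_eq_of_mul_eq_one_right (H.hV a)]; exact ha }
  have hrad : Rad = ⊥ := by
    refine (H.dich Rad fun y u hu w => ?_).resolve_right fun htop => ?_
    · obtain ⟨w, rfl⟩ := (cj y).surjective w
      rw [hβinv]; exact hu w
    have hlin : ∀ v w, q (v * w) = q v + q w := fun v w => by
      refine hadd _ _ ?_
      rw [← add_assoc, hqβ]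
      exact (htop ▸ Subgroup.mem_top v : v ∈ Rad) w
    let W : Subgroup V :=
      { carrier := {v | q v = 0}
        one_mem' := by
          have := hlin 1 1
          rw [one_mul] at this
          exact left_eq_add.mp this
        mul_mem' := fun {a b} ha hb => by
          show q (a * b) = 0
          rw [hlin, ha, hb, add_zero]
        inv_mem' := fun {a} ha => by
          show q a⁻¹ = 0
          rw [inv_eq_of_mul_eq_one_right (H.hV a)]; exact ha }
    rcases H.dich W (fun y v hv => (congrArg χ (H.inv y v)).trans hv) with e' | e'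
    · have hinj : Function.Injective q := fun a b hab => by
        have hm : a * b ∈ W := by
          show q (a * b) = 0
          rw [hlin, hab, hdbl]
        rw [e', Subgroup.mem_bot] at hm
        rw [← inv_eq_of_mul_eq_one_right hm, inv_eq_of_mul_eq_one_right (H.hV a)]
      have := Nat.card_le_card_of_injective q hinj
      rw [H.card, Nat.card_zmod] at this
      omega
    · let K : Subgroup U :=
        { carrier := {u | χ u = 0}
          one_mem' := hχ1
          mul_mem' := fun {a b} ha hb => by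
            show χ (a * b) = 0
            rw [hχm, ha, hb, add_zero]
          inv_mem' := fun {a} ha => by
            show χ a⁻¹ = 0
            rw [inv_eq_of_mul_eq_one_right (H.hU a)]; exact ha }
      have hK := H.gen K fun v => (e' ▸ Subgroup.mem_top v : v ∈ W)
      have hu' : χ u1 = 0 := (hK ▸ Subgroup.mem_top u1 : u1 ∈ K)
      rw [hu1] at hu'
      exact one_ne_zero hu'
  have hnd : ∀ u, u ≠ 1 → ∃ w, χ (β u w) = 1 := fun u hu => by
    by_contra hc
    push Not at hc
    exact hu (Subgroup.mem_bot.1 (hrad ▸ (show u ∈ Rad from fun w => (h01 _).resolve_right (hc w))))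
  -- the five singular points
  let S := {v : V // v ≠ 1 ∧ q v = 0}
  have hperm : ∀ y, ∀ v : V, (v ≠ 1 ∧ q v = 0) ↔ (cj y v ≠ 1 ∧ q (cj y v) = 0) := fun y v => by
    rw [show q (cj y v) = q v from congrArg χ (H.inv y v)]
    exact and_congr_left' (map_ne_one_iff (cj y) (cj y).injective).symm
  let p0 : Y →* Equiv.Perm S :=
    { toFun := fun y => (cj y).toEquiv.subtypeEquiv (hperm y)
      map_one' := Equiv.ext fun v => Subtype.ext (by simp)
      map_mul' := fun a b => Equiv.ext fun v => Subtype.ext (by simp) }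
  have hp0Q : ∀ y ∈ φ.ker, p0 y = 1 := fun y hy => Equiv.ext fun v => Subtype.ext (by
    show cj y v.1 = v.1
    rw [H.triv y hy]; rfl)
  have hS5 : Fintype.card S = 5 := by
    rw [Fintype.card_subtype]
    refine (card_zeros (V := V) (by rw [← Nat.card_eq_fintype_card]; exact H.card) q
      (fun u u' w => by rw [hqβ, hqβ, hqβ, H.bil, hχm]) (fun u hu => ?_)).resolve_right fun h9 => ?_
    · obtain ⟨w, hw⟩ := hnd u hu
      exact ⟨w, (hqβ u w).trans hw⟩
    · have hmod := Equiv.Perm.card_compl_support_modEq (n := 1) (σ := p0 f) (p := 5) (by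
        rw [pow_one, ← map_pow]; exact hp0Q _ H.five)
      have hemp : (p0 f).supportᶜ = ∅ := by
        ext v
        simp only [Finset.mem_compl, Equiv.Perm.mem_support, not_not, Finset.notMem_empty, iff_false]
        exact fun e1 => v.2.1 (H.free _ (congrArg Subtype.val e1))
      rw [hemp, Finset.card_empty, Fintype.card_subtype, h9] at hmod
      exact absurd hmod (by decide)
  let es : S ≃ Fin 5 := Fintype.equivFinOfCardEq hS5
  let vv : Fin 5 → V := fun i => (es.symm i).1
  let p5 : Y →* Equiv.Perm (Fin 5) := es.permCongrHom.toMonoidHom.comp p0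
  have hp5 : ∀ y i, vv (p5 y i) = cj y (vv i) := fun y i => by
    show (es.symm (es (p0 y (es.symm i)))).1 = _
    rw [Equiv.symm_apply_apply]
    rfl
  let p55 : alternatingGroup (Fin 5) →* Equiv.Perm (Fin 5) := φ.liftOfSurjective H.surj ⟨p5, fun y hy => by
    show es.permCongrHom (p0 y) = 1
    rw [hp0Q y hy, map_one]⟩
  have hp55 : ∀ y, p55 (φ y) = p5 y := fun y => MonoidHom.liftOfRightInverse_comp_apply _ _ _ _ _
  haveI : IsSimpleGroup (alternatingGroup (Fin 5)) := alternatingGroup.isSimpleGroup (by simp)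
  have hinj : Function.Injective p55 := by
    rw [← MonoidHom.ker_eq_bot_iff]
    refine ((inferInstance : p55.ker.Normal).eq_bot_or_eq_top).resolve_right fun e1 => ?_
    have h1 : p5 f = 1 := by
      rw [← hp55]
      exact MonoidHom.mem_ker.1 (e1 ▸ Subgroup.mem_top _)
    have h2 : cj f (vv 0) = vv 0 := by rw [← hp5, h1]; rfl
    exact (es.symm 0).2.1 (H.free _ h2)
  have hran : p55.range = alternatingGroup (Fin 5) := by
    refine Equiv.Perm.eq_alternatingGroup_of_index_eq_two ?_
    have hm := p55.range.card_mul_index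
    rw [← Nat.card_congr (MonoidHom.ofInjective hinj).toEquiv, nat_card_alternatingGroup, Nat.card_perm,
      Nat.card_fin, show Nat.factorial 5 / 2 = 60 by rfl, show Nat.factorial 5 = 120 by rfl] at hm
    omega
  have htrans : ∀ i j : Fin 5, i ≠ j → ∃ y : Y, cj y (vv i) = vv 0 ∧ cj y (vv j) = vv 1 := fun i j hij => by
    obtain ⟨⟨σ, hσ⟩, h1, h2⟩ := two_transitive_five i j hij
    obtain ⟨a, ha⟩ : σ ∈ p55.range := hran.ge hσ
    obtain ⟨y, rfl⟩ := H.surj a
    rw [hp55] at ha
    exact ⟨y, by rw [← hp5, ha]; exact congrArg vv h1, by rw [← hp5, ha]; exact congrArg vv h2⟩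
  have hsi : ∀ i, s (vv i) = s (vv 0) := fun i => by
    obtain ⟨j, hj⟩ : ∃ j : Fin 5, i ≠ j := by revert i; decide
    obtain ⟨y, hy, -⟩ := htrans i j hj
    rw [← hy, H.inv]
  set b := β (vv 0) (vv 1) with hbdef
  have hbij : ∀ i j, i ≠ j → β (vv i) (vv j) = b := fun i j hij => by
    obtain ⟨y, h1, h2⟩ := htrans i j hij
    rw [hbdef, ← h1, ← h2, hβinv]
  have hs1 : s 1 = 1 := by
    have := H.mul 1 1
    rw [one_mul, hβ1, mul_one, H.hU] at this
    exact this
  have hprod : vv 0 * vv 1 * vv 2 * vv 3 * vv 4 = 1 := by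
    rw [← Fin.prod_univ_five (fun i => vv i)]
    refine H.free _ ?_
    rw [map_prod, show (∏ i, cj f (vv i)) = ∏ i, vv (p5 f i) from Finset.prod_congr rfl fun i _ => (hp5 f i).symm]
    exact Equiv.prod_comp (p5 f) vv
  have ha1 : s (vv 0) = 1 := by
    have h34 : vv 0 * vv 1 * vv 2 = vv 3 * vv 4 := by
      have : vv 0 * vv 1 * vv 2 * (vv 3 * vv 4) = 1 := by rw [← mul_assoc]; exact hprod
      rw [eq_inv_of_mul_eq_one_left this, inv_eq_of_mul_eq_one_right (H.hV _)]
    have e1 := congrArg s h34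
    rw [H.mul, H.bil, hbij 0 2 (by decide), hbij 1 2 (by decide), H.mul, hbij 0 1 (by decide), H.mul,
      hbij 3 4 (by decide), hsi 1, hsi 2, hsi 3, hsi 4, H.hU, one_mul, H.hU, mul_one] at e1
    exact mul_eq_left.1 e1
  have hbs : ∀ i, s (vv i) = 1 := fun i => (hsi i).trans ha1
  have hββ : ∀ v, β v v = 1 := fun v => by
    have := H.mul v v
    rw [H.hV, hs1, H.hU, one_mul] at this
    exact this.symm
  have hgen : Subgroup.closure (Set.range vv) = ⊤ := by
    refine (H.dich _ fun y v hv => ?_).resolve_left fun e1 => ?_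
    · induction hv using Subgroup.closure_induction with
      | mem a ha => obtain ⟨i, rfl⟩ := ha; rw [← hp5]; exact Subgroup.subset_closure ⟨_, rfl⟩
      | one => rw [map_one]; exact one_mem _
      | mul a c _ _ ha hc => rw [map_mul]; exact mul_mem ha hc
      | inv a _ ha => rw [map_inv]; exact inv_mem ha
    · have h0 : vv 0 ∈ (⊥ : Subgroup V) := e1 ▸ Subgroup.subset_closure ⟨0, rfl⟩
      exact (es.symm 0).2.1 (Subgroup.mem_bot.1 h0)
  let Zb : Subgroup U := Subgroup.zpowers b
  have hβZ : ∀ u w, β u w ∈ Zb := by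
    intro u w
    have hu : u ∈ Subgroup.closure (Set.range vv) := hgen ▸ Subgroup.mem_top u
    induction hu using Subgroup.closure_induction with
    | mem a ha =>
      obtain ⟨i, rfl⟩ := ha
      rw [hsym]
      have hw : w ∈ Subgroup.closure (Set.range vv) := hgen ▸ Subgroup.mem_top w
      induction hw using Subgroup.closure_induction with
      | mem a ha =>
        obtain ⟨j, rfl⟩ := ha
        by_cases hji : j = i
        · rw [hji, hββ]; exact one_mem _
        · rw [hbij j i hji]; exact Subgroup.mem_zpowers b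
      | one => rw [hβ1]; exact one_mem _
      | mul a c _ _ ha hc => rw [H.bil]; exact mul_mem ha hc
      | inv a _ ha => rw [inv_eq_of_mul_eq_one_right (H.hV a)]; exact ha
    | one => rw [hβ1]; exact one_mem _
    | mul a c _ _ ha hc => rw [H.bil]; exact mul_mem ha hc
    | inv a _ ha => rw [inv_eq_of_mul_eq_one_right (H.hV a)]; exact ha
  have hsZ : ∀ v, s v ∈ Zb := by
    intro v
    have hv : v ∈ Subgroup.closure (Set.range vv) := hgen ▸ Subgroup.mem_top v
    induction hv using Subgroup.closure_induction with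
    | mem a ha => obtain ⟨i, rfl⟩ := ha; rw [hbs]; exact one_mem _
    | one => rw [hs1]; exact one_mem _
    | mul a c _ _ ha hc => rw [H.mul]; exact mul_mem (mul_mem ha hc) (hβZ a c)
    | inv a _ ha => rw [inv_eq_of_mul_eq_one_right (H.hV a)]; exact ha
  have hZtop := H.gen Zb hsZ
  have hZb : ∀ u : U, u = 1 ∨ u = b := by
    intro u
    obtain ⟨k, rfl⟩ := Subgroup.mem_zpowers_iff.1 (hZtop ▸ Subgroup.mem_top u : u ∈ Zb)
    have hb2 : b ^ (2 : ℤ) = 1 := by rw [zpow_two, H.hU]
    rcases Int.even_or_odd k with ⟨l, rfl⟩ | ⟨l, rfl⟩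
    · left; rw [← two_mul, zpow_mul, hb2, one_zpow]
    · right; rw [zpow_add, zpow_mul, hb2, one_zpow, one_mul, zpow_one]
  have hb1 : b ≠ 1 := fun e1 => by
    obtain ⟨u, hu⟩ := H.nontriv
    exact hu ((hZb u).elim id fun e2 => e2.trans e1)
  refine ⟨b, vv, hb1, hZb, hbs, hbij, hgen, hprod, fun u hu => ?_⟩
  obtain ⟨w, hw⟩ := hnd u hu
  refine ⟨w, fun e1 => ?_⟩
  rw [e1, hχ1] at hw
  exact zero_ne_one hw

end Cfsg.Agent.A5Radical
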