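import Mathlib

/-!
A non-degenerate quadratic function on a group of order 16 has five or nine non-trivial zeros.
-/

set_option autoImplicit false

namespace Cfsg.Agent.A5Radical

open Finset

/-- The sign of an element of `ZMod 2`. -/
def sgn2 (a : ZMod 2) : ℤ := if a = 0 then 1 else -1

theorem card_zeros {V : Type*} [CommGroup V] [Fintype V] [DecidableEq V] (h16 : Fintype.card V = 16)
    (q : V → ZMod 2)
    (hB : ∀ u u' w, (q (u * u' * w) + q (u * u') + q w) = (q (u * w) + q u + q w) + (q (u' * w) + q u' + q w))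
    (hrad : ∀ u, u ≠ 1 → ∃ w, q (u * w) + q u + q w = 1) :
    ((univ : Finset V).filter fun v => v ≠ 1 ∧ q v = 0).card = 5 ∨
      ((univ : Finset V).filter fun v => v ≠ 1 ∧ q v = 0).card = 9 := by
  have hadd : ∀ a b : ZMod 2, sgn2 (a + b) = sgn2 a * sgn2 b := by decide
  have h01 : ∀ a : ZMod 2, a = 0 ∨ a = 1 := by decide
  have hsq : ∀ a : ZMod 2, a + a = 0 := by decide
  have hq1 : q 1 = 0 := by
    have h := hB 1 1 1
    simp only [mul_one, hsq, zero_add] at h
    rcases h01 (q 1) with e | e
    · exact e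
    · rw [e] at h; exact absurd h (by decide)
  set S : ℤ := ∑ v, sgn2 (q v) with hS
  have hS2 : S * S = 16 := by
    have e1 : S * S = ∑ w, ∑ t, sgn2 (q (t * w)) * sgn2 (q w) := by
      rw [hS, Finset.sum_mul_sum, Finset.sum_comm]
      exact Finset.sum_congr rfl fun w _ => (Equiv.sum_comp (Equiv.mulRight w) _).symm
    have e2 : ∀ t w, sgn2 (q (t * w)) * sgn2 (q w) = sgn2 (q t) * sgn2 (q (t * w) + q t + q w) := fun t w => by
      rw [← hadd, ← hadd]
      congr 1
      rw [show q t + (q (t * w) + q t + q w) = (q t + q t) + (q (t * w) + q w) by ring, hsq, zero_add]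
    rw [e1, Finset.sum_comm]
    simp only [e2, ← Finset.mul_sum]
    rw [Finset.sum_eq_single (1 : V)]
    · simp [hq1, hsq, sgn2, h16]
    · intro t _ ht
      obtain ⟨w0, hw0⟩ := hrad t ht
      have e3 : ∑ w, sgn2 (q (t * w) + q t + q w) = -∑ w, sgn2 (q (t * w) + q t + q w) := by
        conv_lhs => rw [← Equiv.sum_comp (Equiv.mulLeft w0)]
        rw [← Finset.sum_neg_distrib]
        refine Finset.sum_congr rfl fun w _ => ?_
        have hb := hB w0 w t
        rw [mul_comm (w0 * w) t, mul_comm w0 t, mul_comm w t] at hb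
        show sgn2 (q (t * (w0 * w)) + q t + q (w0 * w)) = _
        have hb' : q (t * (w0 * w)) + q t + q (w0 * w) = 1 + (q (t * w) + q t + q w) := by
          rw [← hw0]; linear_combination hb
        rw [hb', hadd]
        show -1 * _ = _
        ring
      have : ∑ w, sgn2 (q (t * w) + q t + q w) = 0 := by linarith
      rw [this, mul_zero]
    · intro h; exact absurd (Finset.mem_univ _) h
  set Z := (univ : Finset V).filter fun v => q v = 0 with hZ
  have hZS : S = 2 * (Z.card : ℤ) - 16 := by
    have : ∀ v, sgn2 (q v) = 2 * (if q v = 0 then (1 : ℤ) else 0) - 1 := fun v => by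
      unfold sgn2; split_ifs <;> norm_num
    rw [hS, Finset.sum_congr rfl fun v _ => this v, Finset.sum_sub_distrib, ← Finset.mul_sum, Finset.sum_boole]
    simp [h16, hZ]
  have hZle : Z.card ≤ 16 := by rw [← h16]; exact Finset.card_le_univ _
  have hkey : ∀ z ∈ List.range 17, (2 * (z : ℤ) - 16) * (2 * (z : ℤ) - 16) = 16 → z = 6 ∨ z = 10 := by decide
  have hsplit : ((univ : Finset V).filter fun v => v ≠ 1 ∧ q v = 0) = Z.erase 1 := by
    ext v; simp [hZ]
  rw [hsplit, Finset.card_erase_of_mem (by simp [hZ, hq1])]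
  rcases hkey Z.card (List.mem_range.2 (by omega)) (by rw [← hZS]; exact hS2) with h | h <;> omega

end Cfsg.Agent.A5Radical
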