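import Cfsg.Agent.Lib.A5Radical.Pairing
import Cfsg.Agent.Lib.A5Radical.Eight
import Cfsg.Prelude.Def_Transfer

/-!
`Q` is elementary abelian of order 16 or `Q₈ * D₈`.
-/

set_option autoImplicit false
set_option linter.unusedSectionVars false
set_option linter.style.haveILetI false

namespace Cfsg.Agent.A5Radical

variable {Y : Type*} [Group Y]

theorem mul_cm (a b : Y) : a * b = b * a * cm a b := by simp [cm, mul_assoc]

variable [Finite Y]

namespace Ctx

variable {Q : Subgroup Y} {φ : Y →* alternatingGroup (Fin 5)} (h : Ctx Q φ)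
include h

/-- The second layer is trivial. -/
theorem rad_rad_eq_bot {z : Y} {x : Fin 5 → Y} (hp : Pairing Q z x) : rad Q (rad Q Q) = ⊥ := by
  haveI := h.normal
  haveI := rad_normal Q Q
  haveI := rad_normal Q (rad Q Q)
  haveI := rad_normal Q (rad Q (rad Q Q))
  by_contra hR
  set P := rad Q Q with hP
  set R := rad Q P with hRd
  set R2 := rad Q R with hR2
  have hPQ : P ≤ Q := rad_le Q Q
  have hRP : R ≤ P := rad_le Q P
  refine rad_ne Q R h.two (hRP.trans hPQ) hR (le_antisymm (rad_le Q R) ?_)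
  let π := QuotientGroup.mk' R2
  let πP := QuotientGroup.mk' P
  let πR := QuotientGroup.mk' R
  have hrc : ∀ r ∈ R, ∀ a ∈ Q, π a * π r = π r * π a := fun r hr a ha =>
    (cm_eq_one.1 ((map_cm π r a).symm.trans ((QuotientGroup.eq_one_iff _).2 (cm_mem_rad hr ha)))).symm
  have hr2 : ∀ r ∈ R, π r * π r = 1 := fun r hr => by
    rw [← map_mul]; exact (QuotientGroup.eq_one_iff _).2 (sq_mem_rad hr)
  have hPeq : ∀ p ∈ P, ∃ r ∈ R, p = r ∨ p = z * r := fun p hpP => by
    rcases hp.two p hpP with h' | h'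
    · exact ⟨p, h', Or.inl rfl⟩
    · exact ⟨_, h', Or.inr (mul_inv_cancel_left z p).symm⟩
  -- `z` is central in `Q` modulo `R2`
  let T : Subgroup Y := Q ⊓ (Subgroup.centralizer {π z}).comap π
  have hT : ∀ a, a ∈ T ↔ a ∈ Q ∧ π a * π z = π z * π a := fun a => by
    simp [T, Subgroup.mem_inf, Subgroup.mem_centralizer_singleton_iff]
  have hPT : ∀ p ∈ P, p ∈ T := by
    intro p hpP
    refine (hT p).2 ⟨hPQ hpP, ?_⟩
    obtain ⟨r, hr, rfl | rfl⟩ := hPeq p hpP
    · exact (hrc _ hr z (hPQ hp.z_mem)).symm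
    · rw [map_mul, mul_assoc, ← hrc r hr z (hPQ hp.z_mem)]
  haveI hTn : T.Normal := ⟨fun a ha y => by
    obtain ⟨haQ, haz⟩ := (hT a).1 ha
    have hc : cm z y⁻¹ ∈ R := hp.central y⁻¹ z hp.z_mem
    have hy : y * a * y⁻¹ ∈ Q := (inferInstance : Q.Normal).conj_mem a haQ y
    refine (hT _).2 ⟨hy, ?_⟩
    have hr : (y * z * y⁻¹)⁻¹ * z ∈ R := by
      have e1 := inv_mem hc
      simpa [cm, mul_assoc] using e1
    have hz2 : π z = π (y * z * y⁻¹) * π ((y * z * y⁻¹)⁻¹ * z) := by rw [← map_mul, mul_inv_cancel_left]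
    rw [hz2, ← mul_assoc]
    have hcom : π (y * a * y⁻¹) * π (y * z * y⁻¹) = π (y * z * y⁻¹) * π (y * a * y⁻¹) := by
      simp only [map_mul, map_inv]
      calc π y * π a * (π y)⁻¹ * (π y * π z * (π y)⁻¹) = π y * (π a * π z) * (π y)⁻¹ := by simp [mul_assoc]
        _ = π y * (π z * π a) * (π y)⁻¹ := by rw [haz]
        _ = _ := by simp [mul_assoc]
    rw [hcom, mul_assoc, hrc _ hr _ hy, ← mul_assoc]⟩
  -- the product of two singular lifts has square `z`
  set a := x 0 * x 1 with ha_def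
  have haQ : a ∈ Q := mul_mem (hp.x_mem 0) (hp.x_mem 1)
  have h01 : πR (cm (x 0) (x 1)) = πR z := (QuotientGroup.eq.2 (hp.x_cm 0 1 (by decide))).symm
  have haa : z⁻¹ * (a * a) ∈ R := by
    refine QuotientGroup.eq.1 ?_
    show πR z = πR (a * a)
    rw [ha_def, sq_mul']
    have hs : ∀ i, πR (x i) * πR (x i) = 1 := fun i => by
      rw [← map_mul]; exact (QuotientGroup.eq_one_iff _).2 (hp.x_sq i)
    have hzc : πR (x 1) * πR z = πR z * πR (x 1) :=
      (cm_eq_one.1 ((map_cm πR z (x 1)).symm.trans ((QuotientGroup.eq_one_iff _).2 (hp.central _ _ hp.z_mem)))).symm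
    have hz2 : (πR z)⁻¹ = πR z := inv_eq_of_mul_eq_one_right (by
      rw [← map_mul]; exact (QuotientGroup.eq_one_iff _).2 (sq_mem_rad hp.z_mem))
    simp only [map_mul]
    rw [← cm_inv (x 0) (x 1), map_inv, h01, hz2, hs, one_mul, hzc, mul_assoc, hs, mul_one]
  have haT : a ∈ T := by
    refine (hT a).2 ⟨haQ, ?_⟩
    have hz' : π z = π (a * a) * (π (z⁻¹ * (a * a)))⁻¹ := by
      rw [← map_inv, ← map_mul, mul_inv_rev (z⁻¹), inv_inv, mul_inv_cancel_left]
    have hc := hrc _ (inv_mem haa) a haQ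
    rw [map_inv] at hc
    have haa' : π a * π (a * a) = π (a * a) * π a := by
      rw [← map_mul, ← map_mul]; exact congrArg π (mul_assoc a a a).symm
    rw [hz', ← mul_assoc, haa', mul_assoc, hc, ← mul_assoc]
  have haP : a ∉ P := fun haP => hp.z_not (by
    have h1 := mul_mem (sq_mem_rad haP : a * a ∈ R) (inv_mem haa)
    simpa [mul_assoc] using h1)
  have hTQ : Q ≤ T := by
    haveI : (T.map πP).Normal := Subgroup.Normal.map inferInstance _ (QuotientGroup.mk'_surjective P)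
    rcases h.bot_or_top (T.map πP) (Subgroup.map_mono inf_le_left) with e' | e'
    · have := e'.le ⟨a, haT, rfl⟩
      exact absurd ((QuotientGroup.eq_one_iff a).1 (Subgroup.mem_bot.1 this)) haP
    · intro c hc
      obtain ⟨t, ht, htc⟩ := e'.ge ⟨c, hc, rfl⟩
      have := mul_mem ht (hPT _ (QuotientGroup.eq.1 htc))
      rwa [mul_inv_cancel_left] at this
  have hzc : ∀ c ∈ Q, π c * π z = π z * π c := fun c hc => ((hT c).1 (hTQ hc)).2
  have hPc : ∀ p ∈ P, ∀ c ∈ Q, π c * π p = π p * π c := by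
    intro p hpP c hc
    obtain ⟨r, hr, rfl | rfl⟩ := hPeq p hpP
    · exact hrc _ hr c hc
    · rw [map_mul, ← mul_assoc, hzc c hc, mul_assoc, hrc r hr c hc, ← mul_assoc]
  -- hence `z` has order two modulo `R2`
  have hzz : π z * π z = 1 := by
    set c := cm (x 0) (x 1) with hc_def
    have hcR : z⁻¹ * c ∈ R := hp.x_cm 0 1 (by decide)
    have hcP : c ∈ P := cm_mem_rad (hp.x_mem 0) (hp.x_mem 1)
    have hcc : ∀ d ∈ Q, π d * π c = π c * π d := fun d hd => hPc c hcP d hd
    have hx2 := hPc _ (sq_mem_rad (hp.x_mem 0)) _ (hp.x_mem 1)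
    have e0 : π (x 0) * π (x 1) = π (x 1) * π (x 0) * π c := by rw [← map_mul, ← map_mul, ← map_mul, ← mul_cm]
    have hc2 : π c * π c = 1 := by
      rw [map_mul, ← mul_assoc] at hx2
      have e1 : π (x 0) * π (x 0) * π (x 1) = π (x 1) * π (x 0) * π (x 0) * (π c * π c) := by
        rw [mul_assoc (π (x 0)), e0, ← mul_assoc, ← mul_assoc, e0]
        calc π (x 1) * π (x 0) * π c * π (x 0) * π c = π (x 1) * π (x 0) * (π c * π (x 0)) * π c := by simp [mul_assoc]
          _ = π (x 1) * π (x 0) * (π (x 0) * π c) * π c := by rw [hcc _ (hp.x_mem 0)]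
          _ = _ := by simp [mul_assoc]
      rw [← hx2] at e1
      exact left_eq_mul.1 e1
    have hzc' : π c = π z * π (z⁻¹ * c) := by rw [← map_mul, mul_inv_cancel_left]
    rw [hzc', mul_assoc, ← mul_assoc (π (z⁻¹ * c)), ← hrc _ hcR _ (hPQ hp.z_mem), mul_assoc (π z),
      hr2 _ hcR, mul_one] at hc2
    exact hc2
  refine (Subgroup.closure_le _).2 ?_
  rintro w (⟨p, hpP, rfl⟩ | ⟨p, hpP, c, hc, rfl⟩)
  · refine (QuotientGroup.eq_one_iff _).1 ?_
    show π (p * p) = 1
    rw [map_mul]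
    obtain ⟨r, hr, rfl | rfl⟩ := hPeq p hpP
    · exact hr2 _ hr
    · rw [map_mul, mul_assoc, ← mul_assoc (π r), ← hrc r hr z (hPQ hp.z_mem), mul_assoc (π z), hr2 r hr, mul_one, hzz]
  · exact (QuotientGroup.eq_one_iff _).1 ((map_cm π p c).trans (cm_eq_one.2 (hPc p hpP c hc).symm))

/-- The conclusion. -/
theorem radical_structure :
    (Cfsg.IsElementaryAbelian 2 Q ∧ Nat.card Q = 16) ∨
      (Nat.card Q = 32 ∧ ∃ A B : Subgroup Q,
        Nonempty (A ≃* QuaternionGroup 2) ∧ Nonempty (B ≃* DihedralGroup 4) ∧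
          (∀ a ∈ A, ∀ b ∈ B, a * b = b * a) ∧ A ⊔ B = ⊤ ∧ A ⊓ B = Subgroup.center Q) := by
  haveI := h.normal
  haveI := rad_normal Q Q
  obtain ⟨e, g, he, hg⟩ := h.exists_lifts
  obtain ⟨hf5, hfQ, -, -⟩ := h.lift_facts he hg
  obtain ⟨h16, -, -⟩ := h.layer (QuotientGroup.mk' (rad Q Q)) (QuotientGroup.mk'_surjective _) (K := Q)
    (fun k hk => by rw [QuotientGroup.ker_mk']; exact sq_mem_rad hk)
    (fun k hk q hq => by rw [QuotientGroup.ker_mk']; exact cm_mem_rad hk hq) he hg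
    (by rw [QuotientGroup.ker_mk']; exact h.nontrivial_top hf5 hfQ)
  set P := rad Q Q with hPd
  have hPQ : P ≤ Q := rad_le Q Q
  have hcardQ : Nat.card Q = 16 * Nat.card P := by
    let g := (QuotientGroup.mk' P).subgroupMap Q
    have hg : g.ker = P.subgroupOf Q := by
      ext w
      rw [MonoidHom.mem_ker, Subgroup.mem_subgroupOf]
      exact ⟨fun e1 => (QuotientGroup.eq_one_iff _).1 (congrArg Subtype.val e1),
        fun e1 => Subtype.ext ((QuotientGroup.eq_one_iff _).2 e1)⟩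
    have hi := g.ker.card_mul_index
    rw [Subgroup.index_ker, hg, Nat.card_congr (Subgroup.subgroupOfEquivOfLe hPQ).toEquiv,
      MonoidHom.range_eq_top.2 (MonoidHom.subgroupMap_surjective _ _), Subgroup.card_top, h16] at hi
    rw [← hi, mul_comm]
  by_cases hP0 : P = ⊥
  · left
    have hexp : ∀ a ∈ Q, a * a = 1 := fun a ha => Subgroup.mem_bot.1 (hP0 ▸ sq_mem_rad ha : a * a ∈ (⊥ : Subgroup Y))
    refine ⟨⟨⟨⟨fun a b => Subtype.ext (comm_of_exp hexp a.2 b.2)⟩⟩, fun a ha => by rw [pow_two]; exact hexp a ha⟩, ?_⟩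
    rw [hcardQ, hP0, Subgroup.card_bot]
  right
  obtain ⟨z, x, hp⟩ := h.exists_pairing hP0
  have hR := h.rad_rad_eq_bot hp
  have hmem : ∀ {w : Y}, w ∈ rad Q (rad Q Q) → w = 1 := fun hw => Subgroup.mem_bot.1 (hR ▸ hw)
  have hz1 : z ≠ 1 := fun e1 => hp.z_not (e1 ▸ one_mem _)
  have hzz : z * z = 1 := hmem (sq_mem_rad hp.z_mem)
  have hPz : ∀ p ∈ P, p = 1 ∨ p = z := fun p hpP => (hp.two p hpP).imp (fun h' => hmem h')
    fun h' => (inv_mul_eq_one.1 (hmem h')).symm
  have hPc : ∀ p ∈ P, ∀ y, y * p = p * y := fun p hpP y => (cm_eq_one.1 (hmem (hp.central y p hpP))).symm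
  have hzc : ∀ y, y * z = z * y := hPc z hp.z_mem
  have hx2 : ∀ i, x i * x i = 1 := fun i => hmem (hp.x_sq i)
  have hxc : ∀ i j, i ≠ j → x i * x j = x j * x i * z := fun i j hij => by
    rw [mul_cm (x i) (x j), ← inv_mul_eq_one.1 (hmem (hp.x_cm i j hij))]
  have hxc' : ∀ i j, i ≠ j → ∀ w, x i * (x j * w) = x j * (x i * (z * w)) := fun i j hij w => by
    rw [← mul_assoc, hxc i j hij]; simp [mul_assoc]
  have hzc' : ∀ i w, x i * (z * w) = z * (x i * w) := fun i w => by rw [← mul_assoc, hzc, mul_assoc]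
  have hxx : ∀ i w, x i * (x i * w) = w := fun i w => by rw [← mul_assoc, hx2, one_mul]
  have hzz' : ∀ w, z * (z * w) = w := fun w => by rw [← mul_assoc, hzz, one_mul]
  have hpair : ∀ i j, i ≠ j → x i * x j * (x i * x j) = z := fun i j hij => by
    rw [mul_assoc, hxc' j i (Ne.symm hij), hxx, hzc', hx2, mul_one]
  have hzi : z⁻¹ = z := inv_eq_of_mul_eq_one_right hzz
  have hinv : ∀ i, (x i)⁻¹ = x i := fun i => inv_eq_of_mul_eq_one_right (hx2 i)
  have hpinv : ∀ i j, (x i * x j)⁻¹ = x j * x i := fun i j => by rw [mul_inv_rev, hinv, hinv]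
  have hne4 : ∀ i j, i ≠ j → (x i * x j) ^ 4 = 1 ∧ x i * x j * (x i * x j) ≠ 1 := fun i j hij =>
    ⟨by rw [show (4 : ℕ) = 2 * 2 from rfl, pow_mul, pow_two (x i * x j), hpair i j hij, pow_two, hzz],
      by rw [hpair i j hij]; exact hz1⟩
  let el : ∀ a, a ∈ Q → Q := fun a ha => ⟨a, ha⟩
  set a0 : Q := el (x 0 * x 1) (mul_mem (hp.x_mem 0) (hp.x_mem 1)) with ha0
  set b0 : Q := el (x 0 * x 2) (mul_mem (hp.x_mem 0) (hp.x_mem 2)) with hb0
  set c0 : Q := el (x 3 * x 4) (mul_mem (hp.x_mem 3) (hp.x_mem 4)) with hc0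
  set d0 : Q := el (x 3) (hp.x_mem 3) with hd0
  set A : Subgroup Q := Subgroup.closure {a0, b0} with hA
  set B : Subgroup Q := Subgroup.closure {c0, d0} with hB
  obtain ⟨eA⟩ := nonempty_quaternion (x := a0) (y := b0) (Subtype.ext (hne4 0 1 (by decide)).1)
    (fun e1 => (hne4 0 1 (by decide)).2 (congrArg Subtype.val e1))
    (Subtype.ext ((hpair 0 2 (by decide)).trans (hpair 0 1 (by decide)).symm))
    (Subtype.ext (by
      show x 0 * x 1 * (x 0 * x 2) = x 0 * x 2 * (x 0 * x 1)⁻¹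
      rw [hpinv]
      have hzx : ∀ i, x i * z = z * x i := fun i => hzc (x i)
      simp only [mul_assoc, hxc' 1 0 (by decide), hxc' 2 0 (by decide), hxc' 2 1 (by decide), hxc 1 0 (by decide),
        hxc 2 0 (by decide), hxc 2 1 (by decide), hzc', hzx, hxx, hzz', hzz, hx2, mul_one]))
  obtain ⟨eB⟩ := nonempty_dihedral (x := c0) (y := d0) (Subtype.ext (hne4 3 4 (by decide)).1)
    (fun e1 => (hne4 3 4 (by decide)).2 (congrArg Subtype.val e1))
    (Subtype.ext (hx2 3))
    (Subtype.ext (by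
      show x 3 * x 4 * x 3 = x 3 * (x 3 * x 4)⁻¹
      rw [hpinv, mul_assoc]))
  have hzA : (el z (hPQ hp.z_mem)) ∈ A := by
    have : a0 * a0 = el z (hPQ hp.z_mem) := Subtype.ext (hpair 0 1 (by decide))
    rw [← this]
    exact mul_mem (Subgroup.subset_closure (Set.mem_insert _ _)) (Subgroup.subset_closure (Set.mem_insert _ _))
  have hzB : (el z (hPQ hp.z_mem)) ∈ B := by
    have : c0 * c0 = el z (hPQ hp.z_mem) := Subtype.ext (hpair 3 4 (by decide))
    rw [← this]
    exact mul_mem (Subgroup.subset_closure (Set.mem_insert _ _)) (Subgroup.subset_closure (Set.mem_insert _ _))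
  have hcommAB : ∀ a ∈ A, ∀ b ∈ B, a * b = b * a := by
    have hij : ∀ i j k, i ≠ k → j ≠ k → x i * x j * x k = x k * (x i * x j) := fun i j k hik hjk => by
      have hzx : ∀ i, x i * z = z * x i := fun i => hzc (x i)
      rw [mul_assoc, hxc j k hjk, ← mul_assoc, ← mul_assoc, hxc i k hik]
      simp only [mul_assoc, hzc', hzx, hzz', hzz, mul_one]
    have hgen : ∀ a ∈ ({a0, b0} : Set Q), ∀ b ∈ ({c0, d0} : Set Q), a * b = b * a := by
      intro a ha b hb
      rcases ha with rfl | rfl <;> rcases hb with rfl | rfl <;> refine Subtype.ext ?_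
      · show x 0 * x 1 * (x 3 * x 4) = x 3 * x 4 * (x 0 * x 1)
        rw [← mul_assoc, hij 0 1 3 (by decide) (by decide), mul_assoc, hij 0 1 4 (by decide) (by decide), ← mul_assoc]
      · exact hij 0 1 3 (by decide) (by decide)
      · show x 0 * x 2 * (x 3 * x 4) = x 3 * x 4 * (x 0 * x 2)
        rw [← mul_assoc, hij 0 2 3 (by decide) (by decide), mul_assoc, hij 0 2 4 (by decide) (by decide), ← mul_assoc]
      · exact hij 0 2 3 (by decide) (by decide)
    intro a ha b hb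
    have h1 : B ≤ Subgroup.centralizer (({a0, b0} : Set Q)) := (Subgroup.closure_le _).2 fun b hb a ha => hgen a ha b hb
    have h2 : A ≤ Subgroup.centralizer (B : Set Q) := (Subgroup.closure_le _).2 fun a ha b hb => (h1 hb a ha).symm
    exact (h2 ha b hb).symm
  have htop : A ⊔ B = ⊤ := by
    set M := A ⊔ B with hM
    have hzM : el z (hPQ hp.z_mem) ∈ M := Subgroup.mem_sup_left hzA
    have hPM : ∀ p, ∀ hpP : p ∈ P, el p (hPQ hpP) ∈ M := fun p hpP => by
      rcases hPz p hpP with rfl | rfl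
      · exact one_mem M
      · exact hzM
    have ha := (Subgroup.mem_sup_left (Subgroup.subset_closure (Set.mem_insert _ _)) : a0 ∈ M)
    have hb := (Subgroup.mem_sup_left (Subgroup.subset_closure (Set.mem_insert_of_mem _ rfl)) : b0 ∈ M)
    have hc := (Subgroup.mem_sup_right (Subgroup.subset_closure (Set.mem_insert _ _)) : c0 ∈ M)
    have hd := (Subgroup.mem_sup_right (Subgroup.subset_closure (Set.mem_insert_of_mem _ rfl)) : d0 ∈ M)
    have hMY : ∀ {w : Y}, (hw : w ∈ Q) → el w hw ∈ M → w ∈ M.map Q.subtype := fun hw hm => ⟨_, hm, rfl⟩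
    set MY := M.map Q.subtype with hMYd
    have mP : ∀ p ∈ P, p ∈ MY := fun p hpP => hMY (hPQ hpP) (hPM p hpP)
    have m01 : x 0 * x 1 ∈ MY := hMY _ ha
    have m02 : x 0 * x 2 ∈ MY := hMY _ hb
    have m34 : x 3 * x 4 ∈ MY := hMY _ hc
    have m3 : x 3 ∈ MY := hMY _ hd
    have m4 : x 4 ∈ MY := by have := mul_mem (inv_mem m3) m34; rwa [inv_mul_cancel_left] at this
    have m2 : x 2 ∈ MY := by
      have := mul_mem (mul_mem (inv_mem m01) (mP _ hp.prod)) (inv_mem m34)
      rwa [show (x 0 * x 1)⁻¹ * (x 0 * x 1 * x 2 * x 3 * x 4) * (x 3 * x 4)⁻¹ = x 2 by simp [mul_assoc]] at this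
    have m0 : x 0 ∈ MY := by have := mul_mem m02 (inv_mem m2); rwa [mul_inv_cancel_right] at this
    have m1 : x 1 ∈ MY := by have := mul_mem (inv_mem m0) m01; rwa [inv_mul_cancel_left] at this
    have hle : Q ≤ MY := hp.gen.trans ((Subgroup.closure_le _).2 (by
      rintro w (⟨i, rfl⟩ | hw)
      · fin_cases i
        exacts [m0, m1, m2, m3, m4]
      · exact mP w hw))
    refine eq_top_iff.2 fun q _ => ?_
    obtain ⟨q', hq', e1⟩ := hle q.2
    rwa [← Subtype.ext e1]
  refine ⟨?_, A, B, ⟨eA.symm⟩, ⟨eB.symm⟩, hcommAB, htop, ?_⟩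
  · have hP2 : Nat.card P = 2 := by
      have hPle : P = Subgroup.zpowers z := by
        refine le_antisymm (fun p hpP => ?_) (Subgroup.zpowers_le.2 hp.z_mem)
        rcases hPz p hpP with rfl | rfl
        · exact one_mem _
        · exact Subgroup.mem_zpowers _
      rw [hPle, Nat.card_zpowers, orderOf_eq_prime (by rw [pow_two, hzz]) hz1]
    rw [hcardQ, hP2]
  · refine le_antisymm (fun w hw => ?_) fun w hw => ?_
    · refine Subgroup.mem_center_iff.2 fun q => ?_
      have hq : q ∈ A ⊔ B := htop ▸ Subgroup.mem_top q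
      have hle : A ⊔ B ≤ Subgroup.centralizer {w} := sup_le
        (fun a ha => Subgroup.mem_centralizer_singleton_iff.2 (hcommAB a ha w hw.2))
        (fun b hb => Subgroup.mem_centralizer_singleton_iff.2 (hcommAB w hw.1 b hb).symm)
      exact Subgroup.mem_centralizer_singleton_iff.1 (hle hq)
    · have hwP : (w : Y) ∈ P := hp.nondeg w w.2 fun c hc => by
        rw [show cm (w : Y) c = 1 from cm_eq_one.2
          (congrArg Subtype.val (Subgroup.mem_center_iff.1 hw ⟨c, hc⟩)).symm]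
        exact one_mem _
      rcases hPz _ hwP with e1 | e1
      · rw [show w = 1 from Subtype.ext e1]; exact one_mem _
      · rw [show w = el z (hPQ hp.z_mem) from Subtype.ext e1]; exact ⟨hzA, hzB⟩

end Ctx

end Cfsg.Agent.A5Radical
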