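import Cfsg.Agent.Lib.A5Radical.Core
import Cfsg.Agent.Lib.A5Radical.Five

/-!
The first layer below `Q`: it has order two and five lifts `x i` of singular vectors with pairwise
non-trivial commutators.
-/

set_option autoImplicit false
set_option linter.unusedSectionVars false
set_option linter.style.haveILetI false

namespace Cfsg.Agent.A5Radical

variable {Y : Type*} [Group Y]

theorem cm_mul_left (a b c : Y) : cm (a * b) c = b⁻¹ * cm a c * b * cm b c := by simp [cm, mul_assoc]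

theorem sq_mul' (a b : Y) : a * b * (a * b) = a * a * (b * cm b a * b) := by simp [cm, mul_assoc]

theorem cm_inv (a b : Y) : (cm a b)⁻¹ = cm b a := by simp [cm, mul_assoc]

/-- The output of the first layer. -/
structure Pairing (Q : Subgroup Y) (z : Y) (x : Fin 5 → Y) : Prop where
  z_mem : z ∈ rad Q Q
  z_not : z ∉ rad Q (rad Q Q)
  two : ∀ p ∈ rad Q Q, p ∈ rad Q (rad Q Q) ∨ z⁻¹ * p ∈ rad Q (rad Q Q)
  central : ∀ (y : Y), ∀ p ∈ rad Q Q, cm p y ∈ rad Q (rad Q Q)
  x_mem : ∀ i, x i ∈ Q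
  x_sq : ∀ i, x i * x i ∈ rad Q (rad Q Q)
  x_cm : ∀ i j, i ≠ j → z⁻¹ * cm (x i) (x j) ∈ rad Q (rad Q Q)
  nondeg : ∀ a ∈ Q, (∀ w ∈ Q, cm a w ∈ rad Q (rad Q Q)) → a ∈ rad Q Q
  gen : Q ≤ Subgroup.closure (Set.range x ∪ (rad Q Q : Set Y))
  prod : x 0 * x 1 * x 2 * x 3 * x 4 ∈ rad Q Q

variable [Finite Y]

namespace Ctx

variable {Q : Subgroup Y} {φ : Y →* alternatingGroup (Fin 5)} (h : Ctx Q φ)
include h

/-- Normal subgroups of `Y / rad Q Q` inside the image of `Q`. -/
theorem bot_or_top [(rad Q Q).Normal] (W : Subgroup (Y ⧸ rad Q Q)) [W.Normal]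
    (hW : W ≤ Q.map (QuotientGroup.mk' (rad Q Q))) : W = ⊥ ∨ W = Q.map (QuotientGroup.mk' (rad Q Q)) := by
  haveI := h.normal
  obtain ⟨e, g, he, hg⟩ := h.exists_lifts
  obtain ⟨hf5, hfQ, -, -⟩ := h.lift_facts he hg
  obtain ⟨h16, hfree, -⟩ := h.layer (QuotientGroup.mk' (rad Q Q)) (QuotientGroup.mk'_surjective _) (K := Q)
    (fun k hk => by rw [QuotientGroup.ker_mk']; exact sq_mem_rad hk)
    (fun k hk q hq => by rw [QuotientGroup.ker_mk']; exact cm_mem_rad hk hq) he hg
    (by rw [QuotientGroup.ker_mk']; exact h.nontrivial_top hf5 hfQ)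
  have hexp : ∀ v ∈ Q.map (QuotientGroup.mk' (rad Q Q)), v * v = 1 := by
    rintro _ ⟨k, hk, rfl⟩
    rw [← map_mul]
    exact (QuotientGroup.eq_one_iff _).2 (sq_mem_rad hk)
  by_cases hne : ∃ v ∈ W, QuotientGroup.mk' (rad Q Q) (e * (g * e * g⁻¹)) * v ≠ v * QuotientGroup.mk' (rad Q Q) (e * (g * e * g⁻¹))
  · refine Or.inr (Subgroup.eq_of_le_of_card_ge hW ?_)
    rw [h16]
    refine (five_fix W (fun v hv => hexp v (hW hv)) (h16 ▸ Subgroup.card_le_of_le hW) _ (fun v hv => ?_) hne).1.ge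
    rw [← map_pow]
    exact comm_of_exp hexp ⟨_, hf5, rfl⟩ (hW hv)
  · push Not at hne
    exact Or.inl ((Subgroup.eq_bot_iff_forall W).2 fun v hv => hfree v (hW hv) (hne v hv))

/-- The layer below `Q` is centralised by `Y`. -/
theorem central_layer : ∀ (y : Y), ∀ p ∈ rad Q Q, cm p y ∈ rad Q (rad Q Q) := by
  haveI := h.normal
  haveI := rad_normal Q Q
  haveI := rad_normal Q (rad Q Q)
  obtain ⟨e, g, he, hg⟩ := h.exists_lifts
  obtain ⟨hf5, hfQ, heQ, hee⟩ := h.lift_facts he hg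
  set f := e * (g * e * g⁻¹) with hf
  set P := rad Q Q with hPdef
  set R := rad Q P with hRdef
  have hPQ : P ≤ Q := rad_le Q Q
  have hRP : R ≤ P := rad_le Q P
  let π := QuotientGroup.mk' R
  have hπc : ∀ p ∈ P, ∀ x ∈ Q, π x * π p = π p * π x := fun p hp x hx =>
    (cm_eq_one.1 ((map_cm π p x).symm.trans ((QuotientGroup.eq_one_iff _).2 (cm_mem_rad hp hx)))).symm
  by_cases hne : ∃ p ∈ P, cm f p ∉ R
  · exfalso
    obtain ⟨hU, -, hCU⟩ := h.layer π (QuotientGroup.mk'_surjective _) (K := P)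
      (fun k hk => by rw [QuotientGroup.ker_mk']; exact sq_mem_rad hk)
      (fun k hk q hq => by rw [QuotientGroup.ker_mk']; exact cm_mem_rad hk hq) he hg
      (by rw [QuotientGroup.ker_mk']; exact hne)
    haveI : (P.map π).Normal := Subgroup.Normal.map inferInstance _ (QuotientGroup.mk'_surjective R)
    haveI : (Q.map π).Normal := Subgroup.Normal.map inferInstance _ (QuotientGroup.mk'_surjective R)
    let ψ := (QuotientGroup.mk' (P.map π)).comp π
    have hψk : ψ.ker = P := by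
      rw [← MonoidHom.comap_ker, QuotientGroup.ker_mk', Subgroup.comap_map_eq_self]
      rw [QuotientGroup.ker_mk']
      exact hRP
    obtain ⟨hN, -, hCN⟩ := h.layer ψ ((QuotientGroup.mk'_surjective _).comp (QuotientGroup.mk'_surjective R)) (K := Q)
      (fun k hk => by rw [hψk]; exact sq_mem_rad hk)
      (fun k hk q hq => by rw [hψk]; exact cm_mem_rad hk hq) he hg
      (by rw [hψk]; exact h.nontrivial_top hf5 hfQ)
    rw [← Subgroup.map_map] at hN hCN
    refine no_section (Q.map π) (P.map π) (Subgroup.map_mono hPQ) ?_ ?_ ?_ hU hN (π e) ?_ ?_ hCU hCN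
      (sectional_map π (QuotientGroup.mk'_surjective R) h.rank)
    · rintro _ ⟨p, hp, rfl⟩
      rw [← map_mul]
      exact (QuotientGroup.eq_one_iff _).2 (sq_mem_rad hp)
    · rintro _ ⟨p, hp, rfl⟩ _ ⟨x, hx, rfl⟩
      exact hπc p hp x hx
    · rintro _ ⟨x, hx, rfl⟩
      exact ⟨x * x, sq_mem_rad hx, map_mul π x x⟩
    · intro hmem
      have h' : e ∈ (Q.map π).comap π := hmem
      rw [Subgroup.comap_map_eq_self (by rw [QuotientGroup.ker_mk']; exact hRP.trans hPQ)] at h'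
      exact heQ h'
    · exact ⟨e * e, hee, map_mul π e e⟩
  · push Not at hne
    haveI : (P.map π).Normal := Subgroup.Normal.map inferInstance _ (QuotientGroup.mk'_surjective R)
    have htop := h.top_of_mem ((Subgroup.centralizer (P.map π : Set (Y ⧸ R))).comap π) (fun x hx => by
      rintro _ ⟨p, hp, rfl⟩
      exact (hπc p hp x hx).symm) (f := f) (by
      rintro _ ⟨p, hp, rfl⟩
      exact (cm_eq_one.1 ((map_cm π f p).symm.trans ((QuotientGroup.eq_one_iff _).2 (hne p hp)))).symm) hfQ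
    intro y p hp
    have hy : π y ∈ Subgroup.centralizer (P.map π : Set (Y ⧸ R)) := by
      show y ∈ (Subgroup.centralizer (P.map π : Set (Y ⧸ R))).comap π
      rw [htop]; exact Subgroup.mem_top y
    exact (QuotientGroup.eq_one_iff _).1 ((map_cm π p y).trans (cm_eq_one.2 (hy _ ⟨p, hp, rfl⟩)))

/-- The pairing. -/
theorem exists_pairing (hP : rad Q Q ≠ ⊥) : ∃ z x, Pairing Q z x := by
  classical
  haveI : Fact (Nat.Prime 5) := ⟨by norm_num⟩
  haveI := h.normal
  haveI := rad_normal Q Q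
  haveI := rad_normal Q (rad Q Q)
  obtain ⟨e, g, he, hg⟩ := h.exists_lifts
  obtain ⟨hf5, hfQ, -, -⟩ := h.lift_facts he hg
  obtain ⟨h16, hfree, -⟩ := h.layer (QuotientGroup.mk' (rad Q Q)) (QuotientGroup.mk'_surjective _) (K := Q)
    (fun k hk => by rw [QuotientGroup.ker_mk']; exact sq_mem_rad hk)
    (fun k hk q hq => by rw [QuotientGroup.ker_mk']; exact cm_mem_rad hk hq) he hg
    (by rw [QuotientGroup.ker_mk']; exact h.nontrivial_top hf5 hfQ)
  have hcen0 := h.central_layer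
  have hRne := rad_ne Q (rad Q Q) h.two (rad_le Q Q) hP
  set f := e * (g * e * g⁻¹) with hf
  set P := rad Q Q with hPdef
  set R := rad Q P with hRdef
  let πP := QuotientGroup.mk' P
  let πR := QuotientGroup.mk' R
  have hPQ : P ≤ Q := rad_le Q Q
  -- the value group
  let U : Subgroup (Y ⧸ R) := P.map πR
  have hUU : ∀ p ∈ P, ∀ y, πR y * πR p = πR p * πR y := fun p hp y =>
    (cm_eq_one.1 ((map_cm πR p y).symm.trans ((QuotientGroup.eq_one_iff _).2 (hcen0 y p hp)))).symm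
  have hUc : ∀ u ∈ U, ∀ w : Y ⧸ R, w * u = u * w := by
    rintro _ ⟨p, hp, rfl⟩ w
    obtain ⟨y, rfl⟩ := QuotientGroup.mk'_surjective R w
    exact hUU p hp y
  have hk : ∀ k ∈ P, ∀ y, (πR y)⁻¹ * πR k * πR y = πR k := fun k hk y => by
    rw [mul_assoc, ← hUU k hk, inv_mul_cancel_left]
  have hsqR : ∀ p ∈ P, πR p * πR p = 1 := fun p hp => by
    rw [← map_mul]; exact (QuotientGroup.eq_one_iff _).2 (sq_mem_rad hp)
  have hUe : ∀ u : U, u * u = 1 := by
    rintro ⟨_, p, hp, rfl⟩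
    exact Subtype.ext (hsqR p hp)
  letI : CommGroup U := { (inferInstance : Group U) with mul_comm := fun a b => Subtype.ext (hUc b b.2 a) }
  -- the space
  let N : Subgroup (Y ⧸ P) := Q.map πP
  haveI : N.Normal := Subgroup.Normal.map inferInstance _ (QuotientGroup.mk'_surjective P)
  have hNexp : ∀ v ∈ N, v * v = 1 := by
    rintro _ ⟨k, hk', rfl⟩
    rw [← map_mul]
    exact (QuotientGroup.eq_one_iff _).2 (sq_mem_rad hk')
  letI : CommGroup N :=
    { (inferInstance : Group N) with mul_comm := fun a b => Subtype.ext (comm_of_exp hNexp a.2 b.2) }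
  have hlift : ∀ v : N, ∃ x ∈ Q, πP x = (v : Y ⧸ P) := fun v => v.2
  choose xl hxQ hxl using hlift
  have hsame : ∀ (v : N) (x : Y), πP x = (v : Y ⧸ P) → ∃ p ∈ P, x = xl v * p := fun v x hxv =>
    ⟨_, QuotientGroup.eq.1 ((hxl v).trans hxv.symm), (mul_inv_cancel_left _ _).symm⟩
  have hsqp : ∀ a p, p ∈ P → πR (a * p * (a * p)) = πR (a * a) := fun a p hp => by
    simp only [map_mul]
    calc πR a * πR p * (πR a * πR p) = πR a * (πR p * πR a) * πR p := by simp [mul_assoc]
      _ = πR a * (πR a * πR p) * πR p := by rw [← hUU p hp]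
      _ = πR a * πR a * (πR p * πR p) := by simp [mul_assoc]
      _ = πR a * πR a := by rw [hsqR p hp, mul_one]
  have hcmm : ∀ a c w, a ∈ Q → c ∈ Q → w ∈ Q → πR (cm (a * c) w) = πR (cm a w) * πR (cm c w) := fun a c w ha _ hw => by
    rw [cm_mul_left, map_mul, map_mul, map_mul, map_inv, hk _ (cm_mem_rad ha hw)]
  have hcmp : ∀ a p w, a ∈ Q → p ∈ P → w ∈ Q → πR (cm (a * p) w) = πR (cm a w) := fun a p w ha hp hw => by
    rw [hcmm a p w ha (hPQ hp) hw, show πR (cm p w) = 1 from (QuotientGroup.eq_one_iff _).2 (cm_mem_rad hp hw),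
      mul_one]
  let s : N → U := fun v => ⟨πR (xl v * xl v), _, sq_mem_rad (hxQ v), rfl⟩
  let β : N → N → U := fun v w => ⟨πR (cm (xl v) (xl w)), _, cm_mem_rad (hxQ v) (hxQ w), rfl⟩
  have hs : ∀ (v : N) (x : Y), πP x = (v : Y ⧸ P) → (s v : Y ⧸ R) = πR (x * x) := fun v x hxv => by
    obtain ⟨p, hp, rfl⟩ := hsame v x hxv
    exact (hsqp _ _ hp).symm
  let cj : Y →* MulAut N := (MulAut.conjNormal (H := N)).comp πP
  have H : QMap φ cj f s β := by
    refine ⟨h.surj, h16, fun v => Subtype.ext (hNexp v v.2), hUe, fun y hy => ?_, by rw [h.ker]; exact hf5,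
      fun v hv => Subtype.ext (hfree v v.2 (mul_inv_eq_iff_eq_mul.1 (congrArg Subtype.val hv))),
      fun W hW => ?_, fun v w => ?_, fun u v w => ?_, fun y v => ?_, fun W hW => ?_, ?_⟩
    · rw [h.ker] at hy
      refine MulEquiv.ext fun v => Subtype.ext ?_
      show πP y * (v : Y ⧸ P) * (πP y)⁻¹ = v
      rw [comm_of_exp hNexp ⟨y, hy, rfl⟩ v.2, mul_inv_cancel_right]
    · haveI : (W.map N.subtype).Normal := ⟨by
        rintro _ ⟨v, hv, rfl⟩ c
        obtain ⟨y, rfl⟩ := QuotientGroup.mk'_surjective P c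
        exact ⟨cj y v, hW y v hv, rfl⟩⟩
      rcases h.bot_or_top (W.map N.subtype) (Subgroup.map_subtype_le W) with e' | e'
      · exact Or.inl ((Subgroup.map_eq_bot_iff_of_injective _ N.subtype_injective).1 e')
      · refine Or.inr (Subgroup.map_injective N.subtype_injective (e'.trans ?_))
        rw [← MonoidHom.range_eq_map, Subgroup.range_subtype]
    · refine Subtype.ext ?_
      rw [hs (v * w) (xl v * xl w) (by rw [map_mul, hxl, hxl]; rfl), sq_mul']
      show πR (xl v * xl v * (xl w * cm (xl w) (xl v) * xl w)) =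
        πR (xl v * xl v) * πR (xl w * xl w) * πR (cm (xl v) (xl w))
      have hc := hUU _ (cm_mem_rad (hxQ w) (hxQ v)) (xl w)
      have hinv : πR (cm (xl w) (xl v)) = πR (cm (xl v) (xl w)) := by
        rw [← cm_inv (xl v) (xl w), map_inv]
        exact inv_eq_of_mul_eq_one_right (hsqR _ (cm_mem_rad (hxQ v) (hxQ w)))
      simp only [map_mul]
      rw [mul_assoc (πR (xl w)) _ (πR (xl w)), ← hc, hinv]
      simp [mul_assoc]
    · refine Subtype.ext ?_
      obtain ⟨p, hp, e1⟩ := hsame (u * v) (xl u * xl v) (by rw [map_mul, hxl, hxl]; rfl)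
      show πR (cm (xl (u * v)) (xl w)) = πR (cm (xl u) (xl w)) * πR (cm (xl v) (xl w))
      rw [← hcmm _ _ _ (hxQ u) (hxQ v) (hxQ w), e1, hcmp _ _ _ (hxQ _) hp (hxQ w)]
    · refine Subtype.ext ?_
      rw [hs (cj y v) (y * xl v * y⁻¹) (by rw [map_mul, map_mul, map_inv, hxl]; rfl)]
      show πR (y * xl v * y⁻¹ * (y * xl v * y⁻¹)) = πR (xl v * xl v)
      rw [show y * xl v * y⁻¹ * (y * xl v * y⁻¹) = y * (xl v * xl v) * y⁻¹ by simp [mul_assoc], map_mul, map_mul,
        hUU _ (sq_mem_rad (hxQ v)), mul_assoc, map_inv, mul_inv_cancel, mul_one]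
    · have hle : P ≤ (W.map U.subtype).comap πR := by
        have hsq : ∀ a ∈ Q, a * a ∈ (W.map U.subtype).comap πR := fun a ha =>
          ⟨s ⟨πP a, a, ha, rfl⟩, hW _, hs _ a rfl⟩
        refine (Subgroup.closure_le _).2 ?_
        rintro x (⟨k, hk', rfl⟩ | ⟨k, hk', w, hw, rfl⟩)
        · exact hsq k hk'
        · rw [cm_eq_squares]
          exact mul_mem (mul_mem (hsq _ (inv_mem hk')) (hsq _ (mul_mem hk' (inv_mem hw)))) (hsq _ hw)
      refine eq_top_iff.2 ?_
      rintro ⟨_, p, hp, rfl⟩ -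
      obtain ⟨u, hu, hue⟩ := hle hp
      exact (Subtype.ext hue : u = ⟨πR p, p, hp, rfl⟩) ▸ hu
    · by_contra hc
      push Not at hc
      refine hRne (le_antisymm (rad_le Q P) fun p hp => ?_)
      exact (QuotientGroup.eq_one_iff p).1 (congrArg Subtype.val (hc ⟨πR p, p, hp, rfl⟩))
  obtain ⟨b, vv, hb1, hZb, hbs, hbij, hgen, hprod, hnd⟩ := exists_five H
  have hb : b = β (vv 0) (vv 1) := (hbij 0 1 (by decide)).symm
  refine ⟨cm (xl (vv 0)) (xl (vv 1)), fun i => xl (vv i), cm_mem_rad (hxQ _) (hxQ _), fun hm => hb1 ?_,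
    fun p hp => ?_, hcen0, fun i => hxQ _, fun i => ?_, fun i j hij => ?_, fun a ha hall => ?_, ?_, ?_⟩
  · rw [hb]
    exact Subtype.ext ((QuotientGroup.eq_one_iff _).2 hm)
  · rcases hZb ⟨πR p, p, hp, rfl⟩ with e1 | e1
    · exact Or.inl ((QuotientGroup.eq_one_iff p).1 (congrArg Subtype.val e1))
    · exact Or.inr (QuotientGroup.eq.1 (congrArg Subtype.val (e1.trans hb)).symm)
  · exact (QuotientGroup.eq_one_iff _).1 (congrArg Subtype.val (hbs i))
  · exact QuotientGroup.eq.1 (congrArg Subtype.val ((hbij i j hij).trans hb)).symm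
  · by_contra haP
    obtain ⟨w, hw⟩ := hnd ⟨πP a, a, ha, rfl⟩
      (fun e1 => haP ((QuotientGroup.eq_one_iff a).1 (congrArg Subtype.val e1)))
    refine hw (Subtype.ext ?_)
    obtain ⟨p, hp, e1⟩ := hsame ⟨πP a, a, ha, rfl⟩ a rfl
    show πR (cm (xl ⟨πP a, _⟩) (xl w)) = 1
    rw [← hcmp _ p _ (hxQ _) hp (hxQ w), ← e1]
    exact (QuotientGroup.eq_one_iff _).2 (hall _ (hxQ w))
  · intro a ha
    have key : ∀ v : N, v ∈ Subgroup.closure (Set.range vv) → (v : Y ⧸ P) ∈
        (Subgroup.closure (Set.range (fun i => xl (vv i)) ∪ (P : Set Y))).map πP := by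
      intro v hv
      induction hv using Subgroup.closure_induction with
      | mem w hw => obtain ⟨i, rfl⟩ := hw; exact ⟨_, Subgroup.subset_closure (Or.inl ⟨i, rfl⟩), hxl _⟩
      | one => exact one_mem _
      | mul u w _ _ hu hw => exact mul_mem hu hw
      | inv u _ hu => exact inv_mem hu
    obtain ⟨c, hc, hca⟩ := key ⟨πP a, a, ha, rfl⟩ (hgen ▸ Subgroup.mem_top _)
    have := mul_mem hc (Subgroup.subset_closure (Or.inr (QuotientGroup.eq.1 hca)) :
      c⁻¹ * a ∈ Subgroup.closure (Set.range (fun i => xl (vv i)) ∪ (P : Set Y)))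
    rwa [mul_inv_cancel_left] at this
  · rw [← QuotientGroup.eq_one_iff]
    show πP _ = 1
    simp only [map_mul, hxl]
    exact congrArg Subtype.val hprod

end Ctx

end Cfsg.Agent.A5Radical
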