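import Mathlib
import Cfsg.Prelude.Def_CaseTheorems
import Cfsg.Agent.Lib.ThreeInvol.Solvable

/-!
Elements of order five and involutions on elementary abelian sections of order 16; an involution fixing four
points on two such layers gives a section of order 32.
-/

set_option autoImplicit false
set_option linter.unusedSectionVars false
set_option linter.style.haveILetI false

namespace Cfsg.Agent.A5Radical

variable {G : Type*} [Group G] [Finite G]

/-- The fixed points of `e` in `N`. -/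
abbrev Cfix (N : Subgroup G) (e : G) : Subgroup G := N ⊓ Subgroup.centralizer {e}

theorem mem_Cfix {N : Subgroup G} {e v : G} : v ∈ Cfix N e ↔ v ∈ N ∧ e * v = v * e := by
  simp only [Subgroup.mem_inf, Subgroup.mem_centralizer_singleton_iff, eq_comm]

theorem comm_of_exp {N : Subgroup G} (hexp : ∀ v ∈ N, v * v = 1) {a b : G} (ha : a ∈ N) (hb : b ∈ N) :
    a * b = b * a :=
  congrArg Subtype.val (ThreeInvol.comm_of_sq (V := N) (fun v => Subtype.ext (hexp v v.2)) ⟨a, ha⟩ ⟨b, hb⟩)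

theorem card_two_pow {N : Subgroup G} (hexp : ∀ v ∈ N, v * v = 1) : ∃ k, Nat.card N = 2 ^ k := by
  haveI : Fact (Nat.Prime 2) := ⟨Nat.prime_two⟩
  exact IsPGroup.iff_card.1 fun v : N => ⟨1, Subtype.ext (by rw [pow_one, pow_two]; exact hexp v v.2)⟩

/-- An element of order five acting on an elementary abelian group of order at most 16. -/
theorem five_fix (N : Subgroup G) [N.Normal] (hexp : ∀ v ∈ N, v * v = 1) (h16 : Nat.card N ≤ 16) (f : G)
    (hf5 : ∀ v ∈ N, f ^ 5 * v = v * f ^ 5) (hne : ∃ v ∈ N, f * v ≠ v * f) :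
    Nat.card N = 16 ∧ ∀ v ∈ N, f * v = v * f → v = 1 := by
  haveI : Fact (Nat.Prime 5) := ⟨by norm_num⟩
  set σ : MulAut N := MulAut.conjNormal f with hσ
  have hσ5 : σ ^ 5 = 1 := by
    rw [hσ, ← map_pow]
    exact MulEquiv.ext fun v => Subtype.ext (by
      show f ^ 5 * v * (f ^ 5)⁻¹ = v
      rw [hf5 _ v.2, mul_inv_cancel_right])
  have hfix : ∀ v : N, v ∈ ThreeInvol.fixedSubgroup σ ↔ f * v = v * f := fun v => by
    show σ v = v ↔ _
    rw [Subtype.ext_iff]
    exact mul_inv_eq_iff_eq_mul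
  have hmod : Nat.card N ≡ Nat.card (ThreeInvol.fixedSubgroup σ) [MOD 5] := ThreeInvol.card_fixed_modEq_prime hσ5
  have hd := Subgroup.card_subgroup_dvd_card (ThreeInvol.fixedSubgroup σ)
  obtain ⟨k, hk⟩ := card_two_pow hexp
  obtain ⟨v, hv, hv'⟩ := hne
  have hlt : Nat.card (ThreeInvol.fixedSubgroup σ) ≠ Nat.card N := fun e => hv' <| by
    have htop := Subgroup.eq_top_of_card_eq _ e
    exact (hfix ⟨v, hv⟩).1 (htop ▸ Subgroup.mem_top _)
  have hk4 : k ≤ 4 := (Nat.pow_le_pow_iff_right (le_refl 2)).1 (show 2 ^ k ≤ 2 ^ 4 by rw [← hk]; exact h16)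
  rw [hk] at hd hmod hlt ⊢
  have key : ∀ k ≤ 4, ∀ d ∈ List.range (2 ^ k + 1), d ∣ 2 ^ k → d ≠ 2 ^ k → 2 ^ k % 5 = d % 5 → k = 4 ∧ d = 1 := by
    decide
  obtain ⟨rfl, h1⟩ := key k hk4 _ (List.mem_range.2 (Nat.lt_succ_of_le (Nat.le_of_dvd (by positivity) hd))) hd hlt hmod
  refine ⟨by norm_num, fun v hv hvf => ?_⟩
  have hm : (⟨v, hv⟩ : N) ∈ ThreeInvol.fixedSubgroup σ := (hfix _).2 hvf
  rw [Subgroup.card_eq_one] at h1
  rw [h1] at hm
  exact congrArg Subtype.val (Subgroup.mem_bot.1 hm)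

/-- An involution whose product with a conjugate is fixed-point-free. -/
theorem four_fix (N : Subgroup G) [N.Normal] (hexp : ∀ v ∈ N, v * v = 1) (h16 : Nat.card N = 16) (e g : G)
    (he : ∀ v ∈ N, e * e * v = v * (e * e))
    (hfree : ∀ v ∈ N, e * (g * e * g⁻¹) * v = v * (e * (g * e * g⁻¹)) → v = 1) :
    Nat.card (Cfix N e) = 4 := by
  have hcard : Nat.card (Cfix N (g * e * g⁻¹)) = Nat.card (Cfix N e) := by
    have hm : Cfix N (g * e * g⁻¹) = (Cfix N e).map (MulAut.conj g).toMonoidHom := by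
      ext v
      constructor
      · intro hv
        obtain ⟨hv, hve⟩ := mem_Cfix.1 hv
        refine ⟨g⁻¹ * v * g, mem_Cfix.2 ⟨(inferInstance : N.Normal).conj_mem' v hv g, ?_⟩, by simp [mul_assoc]⟩
        calc e * (g⁻¹ * v * g) = g⁻¹ * (g * e * g⁻¹ * v) * g := by simp [mul_assoc]
          _ = g⁻¹ * (v * (g * e * g⁻¹)) * g := by rw [hve]
          _ = _ := by simp [mul_assoc]
      · rintro ⟨w, hw, rfl⟩
        obtain ⟨hw, hwe⟩ := mem_Cfix.1 hw
        refine mem_Cfix.2 ⟨(inferInstance : N.Normal).conj_mem w hw g, ?_⟩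
        show g * e * g⁻¹ * (g * w * g⁻¹) = g * w * g⁻¹ * (g * e * g⁻¹)
        calc g * e * g⁻¹ * (g * w * g⁻¹) = g * (e * w) * g⁻¹ := by simp [mul_assoc]
          _ = g * (w * e) * g⁻¹ := by rw [hwe]
          _ = _ := by simp [mul_assoc]
    rw [hm]
    exact Subgroup.card_map_of_injective (MulAut.conj g).injective
  have hle : Nat.card (Cfix N e) * Nat.card (Cfix N (g * e * g⁻¹)) ≤ 16 := by
    rw [← h16, ← Nat.card_prod]
    refine Nat.card_le_card_of_injective (fun p => (⟨p.1.1 * p.2.1, mul_mem p.1.2.1 p.2.2.1⟩ : N)) ?_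
    rintro ⟨a, b⟩ ⟨a', b'⟩ hab
    have hab' : a.1 * b.1 = a'.1 * b'.1 := congrArg Subtype.val hab
    have hm1 := mem_Cfix.1 (mul_mem (inv_mem a'.2) a.2)
    have hm2 := mem_Cfix.1 (mul_mem b'.2 (inv_mem b.2))
    have heq : a'.1⁻¹ * a.1 = b'.1 * b.1⁻¹ := by
      rw [inv_mul_eq_iff_eq_mul, ← mul_assoc, eq_mul_inv_iff_mul_eq, hab']
    have h1 : a'.1⁻¹ * a.1 = 1 := hfree _ hm1.1 (by
      rw [mul_assoc e, show g * e * g⁻¹ * (a'.1⁻¹ * a.1) = a'.1⁻¹ * a.1 * (g * e * g⁻¹) by rw [heq]; exact hm2.2,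
        ← mul_assoc e, hm1.2]
      simp [mul_assoc])
    have ha : a = a' := Subtype.ext (inv_mul_eq_one.1 h1).symm
    subst ha
    exact Prod.ext rfl (Subtype.ext (mul_left_cancel hab'))
  let τ : N →* N := MonoidHom.mk' (fun v => v * MulAut.conjNormal e v) fun v w => by
    rw [map_mul]
    have hc : ∀ a b : N, a * b = b * a := fun a b => Subtype.ext (comm_of_exp hexp a.2 b.2)
    calc v * w * (MulAut.conjNormal e v * MulAut.conjNormal e w)
        = v * (w * MulAut.conjNormal e v) * MulAut.conjNormal e w := by simp [mul_assoc]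
      _ = _ := by rw [hc w]; simp [mul_assoc]
  have hker : τ.ker.map N.subtype ≤ Cfix N e := by
    rintro _ ⟨v, hv, rfl⟩
    refine mem_Cfix.2 ⟨v.2, ?_⟩
    have h1 : (v : G) * (e * v * e⁻¹) = 1 := congrArg Subtype.val hv
    have h2 : e * (v : G) * e⁻¹ = v := by
      rw [← inv_eq_of_mul_eq_one_right h1, inv_eq_of_mul_eq_one_right (hexp _ v.2)]
    exact mul_inv_eq_iff_eq_mul.1 h2
  have hran : τ.range.map N.subtype ≤ Cfix N e := by
    rintro _ ⟨_, ⟨v, rfl⟩, rfl⟩
    refine mem_Cfix.2 ⟨(τ v).2, ?_⟩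
    show e * ((v : G) * (e * v * e⁻¹)) = (v : G) * (e * v * e⁻¹) * e
    have h2 : e * (e * (v : G) * e⁻¹) = v * e := by
      calc e * (e * (v : G) * e⁻¹) = e * e * v * e⁻¹ := by simp [mul_assoc]
        _ = v * (e * e) * e⁻¹ := by rw [he _ v.2]
        _ = v * e := by simp [mul_assoc]
    calc e * ((v : G) * (e * v * e⁻¹)) = e * ((e * v * e⁻¹) * v) := by
          rw [comm_of_exp hexp v.2 ((inferInstance : N.Normal).conj_mem _ v.2 e)]
      _ = e * (e * v * e⁻¹) * v := by simp [mul_assoc]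
      _ = v * (e * v) := by rw [h2]; simp [mul_assoc]
      _ = _ := by simp [mul_assoc]
  have h1 := Subgroup.card_le_of_le hker
  have h2 := Subgroup.card_le_of_le hran
  rw [Subgroup.card_map_of_injective N.subtype_injective] at h1 h2
  have h3 := τ.ker.card_mul_index
  rw [Subgroup.index_ker, h16] at h3
  rw [hcard] at hle
  have h4 : 16 ≤ Nat.card (Cfix N e) * Nat.card (Cfix N e) := h3 ▸ Nat.mul_le_mul h1 h2
  nlinarith [sq_nonneg ((Nat.card (Cfix N e) : ℤ) - 4)]

variable {Y : Type*} [Group Y] [Finite Y]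

/-- Two layers of order 16 with four fixed points each give a section of order 32. -/
theorem no_section (Q U : Subgroup Y) [Q.Normal] [U.Normal] (hUQ : U ≤ Q) (hexp : ∀ u ∈ U, u * u = 1)
    (hcen : ∀ u ∈ U, ∀ x ∈ Q, x * u = u * x) (hsq : ∀ x ∈ Q, x * x ∈ U) (hU : Nat.card U = 16)
    (hN : Nat.card (Q.map (QuotientGroup.mk' U)) = 16) (e : Y) (heQ : e ∉ Q) (he : e * e ∈ Q)
    (hCU : Nat.card (Cfix U e) = 4)
    (hCN : Nat.card (Cfix (Q.map (QuotientGroup.mk' U)) (QuotientGroup.mk' U e)) = 4) :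
    ¬ Cfsg.SectionalPRankLE 2 4 Y := by
  intro hsr
  let π := QuotientGroup.mk' U
  set N := Q.map π with hNdef
  have hNexp : ∀ v ∈ N, v * v = 1 := by
    rintro _ ⟨x, hx, rfl⟩
    rw [← map_mul]
    exact (QuotientGroup.eq_one_iff _).2 (hsq x hx)
  haveI : N.Normal := Subgroup.Normal.map inferInstance _ (QuotientGroup.mk'_surjective U)
  -- a lift whose square lies in `U`
  let τ : N →* N := MonoidHom.mk' (fun v => v * MulAut.conjNormal (π e) v) fun v w => by
    rw [map_mul]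
    have hc : ∀ a b : N, a * b = b * a := fun a b => Subtype.ext (comm_of_exp hNexp a.2 b.2)
    calc v * w * (MulAut.conjNormal (π e) v * MulAut.conjNormal (π e) w)
        = v * (w * MulAut.conjNormal (π e) v) * MulAut.conjNormal (π e) w := by simp [mul_assoc]
      _ = _ := by rw [hc w]; simp [mul_assoc]
  have heeN : π e * π e ∈ N := ⟨e * e, he, map_mul π e e⟩
  obtain ⟨y, hy, hyeq⟩ : ∃ y ∈ Q, π y * (π e * π y * (π e)⁻¹) = π e * π e := by
    have hran : τ.range.map N.subtype ≤ Cfix N (π e) := by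
      rintro _ ⟨_, ⟨v, rfl⟩, rfl⟩
      refine mem_Cfix.2 ⟨(τ v).2, ?_⟩
      show π e * ((v : Y ⧸ U) * (π e * v * (π e)⁻¹)) = (v : Y ⧸ U) * (π e * v * (π e)⁻¹) * π e
      rw [comm_of_exp hNexp v.2 ((inferInstance : N.Normal).conj_mem _ v.2 (π e))]
      calc π e * (π e * (v : Y ⧸ U) * (π e)⁻¹ * v) = (π e * π e * v) * (π e)⁻¹ * v := by simp [mul_assoc]
        _ = (v * (π e * π e)) * (π e)⁻¹ * v := by rw [comm_of_exp hNexp heeN v.2]
        _ = v * π e * v := by simp [mul_assoc]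
        _ = _ := by
            rw [show π e * (v : Y ⧸ U) * (π e)⁻¹ * v = v * (π e * v * (π e)⁻¹) from
              comm_of_exp hNexp ((inferInstance : N.Normal).conj_mem _ v.2 (π e)) v.2]
            simp [mul_assoc]
    have hker : τ.ker.map N.subtype ≤ Cfix N (π e) := by
      rintro _ ⟨v, hv, rfl⟩
      refine mem_Cfix.2 ⟨v.2, ?_⟩
      have h1 : (v : Y ⧸ U) * (π e * v * (π e)⁻¹) = 1 := congrArg Subtype.val hv
      have h2 : π e * (v : Y ⧸ U) * (π e)⁻¹ = v := by
        rw [← inv_eq_of_mul_eq_one_right h1, inv_eq_of_mul_eq_one_right (hNexp _ v.2)]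
      exact mul_inv_eq_iff_eq_mul.1 h2
    have h1 := Subgroup.card_le_of_le hker
    rw [Subgroup.card_map_of_injective N.subtype_injective, show Nat.card (Cfix N (π e)) = 4 from hCN] at h1
    have h3 := τ.ker.card_mul_index
    rw [Subgroup.index_ker, hN] at h3
    have hrge : Nat.card (Cfix N (π e)) ≤ Nat.card (τ.range.map N.subtype) := by
      rw [Subgroup.card_map_of_injective N.subtype_injective, show Nat.card (Cfix N (π e)) = 4 from hCN]
      nlinarith
    have heq := Subgroup.eq_of_le_of_card_ge hran hrge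
    have hm : π e * π e ∈ Cfix N (π e) := mem_Cfix.2 ⟨heeN, (mul_assoc _ _ _).symm⟩
    rw [← heq] at hm
    obtain ⟨_, ⟨⟨_, y, hy, rfl⟩, rfl⟩, hv⟩ := hm
    exact ⟨y, hy, hv⟩
  set e1 := y * e with he1
  have he1U : e1 * e1 ∈ U := by
    rw [← QuotientGroup.eq_one_iff]
    show π (y * e * (y * e)) = 1
    rw [map_mul, map_mul]
    calc π y * π e * (π y * π e) = π y * (π e * π y * (π e)⁻¹) * (π e * π e) := by simp [mul_assoc]
      _ = 1 := by rw [hyeq]; exact hNexp _ heeN
  have he1Q : e1 ∉ Q := fun h => heQ ((Subgroup.mul_mem_cancel_left Q hy).1 h)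
  have hCU' : Cfix U e1 = Cfix U e := by
    ext u
    rw [mem_Cfix, mem_Cfix]
    refine and_congr_right fun hu => ?_
    constructor
    · intro h
      have h' : y * (e * u) = y * (u * e) := by
        rw [← mul_assoc, ← mul_assoc, ← he1, h, hcen u hu y hy, he1, mul_assoc]
      exact mul_left_cancel h'
    · intro h
      rw [he1, mul_assoc, h, ← mul_assoc, hcen u hu y hy, mul_assoc]
  have hCN' : Cfix N (π e1) = Cfix N (π e) := by
    ext v
    rw [mem_Cfix, mem_Cfix]
    refine and_congr_right fun hv => ?_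
    have hyv : π y * v = v * π y := comm_of_exp hNexp ⟨y, hy, rfl⟩ hv
    rw [he1, map_mul]
    constructor
    · intro h
      rw [mul_assoc, ← mul_assoc v, ← hyv, mul_assoc] at h
      exact mul_left_cancel h
    · intro h
      rw [mul_assoc, h, ← mul_assoc, hyv, mul_assoc]
  set C := Cfix U e1 with hC
  set W0 := Q ⊓ (Subgroup.centralizer {π e1}).comap π with hW0
  have hUW : U ≤ W0 := fun u hu => ⟨hUQ hu, by
    show π u ∈ Subgroup.centralizer {π e1}
    rw [show π u = 1 from (QuotientGroup.eq_one_iff u).2 hu]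
    exact one_mem _⟩
  have hW0card : Nat.card W0 = 64 := by
    let g := π.subgroupMap W0
    have hg : g.ker = U.subgroupOf W0 := by
      ext w
      rw [MonoidHom.mem_ker, Subgroup.mem_subgroupOf]
      exact ⟨fun e1 => (QuotientGroup.eq_one_iff _).1 (congrArg Subtype.val e1),
        fun e1 => Subtype.ext ((QuotientGroup.eq_one_iff _).2 e1)⟩
    have hm : W0.map π = Cfix N (π e1) := by
      ext v
      constructor
      · rintro ⟨x, hx, rfl⟩
        exact ⟨⟨x, hx.1, rfl⟩, hx.2⟩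
      · rintro ⟨⟨x, hx, rfl⟩, hc⟩
        exact ⟨x, ⟨hx, hc⟩, rfl⟩
    have hi := g.ker.card_mul_index
    rw [Subgroup.index_ker, hg, Nat.card_congr (Subgroup.subgroupOfEquivOfLe hUW).toEquiv, hU,
      MonoidHom.range_eq_top.2 (MonoidHom.subgroupMap_surjective _ _), Subgroup.card_top, hm, hCN', hCN] at hi
    omega
  have hW0sq : ∀ x ∈ W0, x * x ∈ C := fun x hx => by
    refine mem_Cfix.2 ⟨hsq x hx.1, ?_⟩
    have hc : x⁻¹ * (e1 * x * e1⁻¹) ∈ U := by
      rw [← QuotientGroup.eq_one_iff]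
      show π (x⁻¹ * (e1 * x * e1⁻¹)) = 1
      have h := Subgroup.mem_centralizer_singleton_iff.1 hx.2
      simp only [map_mul, map_inv]
      rw [← h, mul_inv_cancel_right, inv_mul_cancel]
    obtain ⟨c, hc0, hce⟩ : ∃ c ∈ U, e1 * x * e1⁻¹ = x * c := ⟨_, hc, (mul_inv_cancel_left x _).symm⟩
    have : e1 * (x * x) * e1⁻¹ = x * x := by
      calc e1 * (x * x) * e1⁻¹ = (e1 * x * e1⁻¹) * (e1 * x * e1⁻¹) := by simp [mul_assoc]
        _ = x * (c * x) * c := by rw [hce]; simp [mul_assoc]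
        _ = x * (x * c) * c := by rw [← hcen c hc0 x hx.1]
        _ = x * x * (c * c) := by simp [mul_assoc]
        _ = x * x := by rw [hexp c hc0, mul_one]
    exact mul_inv_eq_iff_eq_mul.1 this
  have hCsq : e1 * e1 ∈ C := mem_Cfix.2 ⟨he1U, (mul_assoc _ _ _).symm⟩
  have hCconj : ∀ x ∈ W0, x⁻¹ * e1⁻¹ * x * e1 ∈ C := fun x hx => by
    have hxc : x⁻¹ * (e1⁻¹ * x * e1) ∈ U := by
      rw [← QuotientGroup.eq_one_iff]
      show π (x⁻¹ * (e1⁻¹ * x * e1)) = 1
      have h := Subgroup.mem_centralizer_singleton_iff.1 hx.2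
      simp only [map_mul, map_inv]
      rw [mul_assoc (π e1)⁻¹, h, inv_mul_cancel_left, inv_mul_cancel]
    rw [show x⁻¹ * e1⁻¹ * x * e1 = x⁻¹ * (e1⁻¹ * x * e1) by simp [mul_assoc]]
    obtain ⟨c, hc0, hce⟩ : ∃ c ∈ U, e1⁻¹ * x * e1 = x * c := ⟨_, hxc, (mul_inv_cancel_left x _).symm⟩
    rw [hce, inv_mul_cancel_left]
    refine mem_Cfix.2 ⟨hc0, ?_⟩
    have h2 : x = x * c * (e1⁻¹ * c * e1) := by
      calc x = (e1 * e1)⁻¹ * x * (e1 * e1) := by
            rw [mul_assoc, hcen _ he1U x hx.1, inv_mul_cancel_left]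
        _ = e1⁻¹ * (e1⁻¹ * x * e1) * e1 := by simp [mul_assoc]
        _ = e1⁻¹ * (x * c) * e1 := by rw [hce]
        _ = (e1⁻¹ * x * e1) * (e1⁻¹ * c * e1) := by simp [mul_assoc]
        _ = _ := by rw [hce]
    rw [mul_assoc, left_eq_mul] at h2
    have h3 : e1⁻¹ * c * e1 = c := by
      rw [← inv_eq_of_mul_eq_one_right h2, inv_eq_of_mul_eq_one_right (hexp c hc0)]
    rw [mul_assoc, inv_mul_eq_iff_eq_mul] at h3
    exact h3.symm
  -- the section
  let S : Set Y := insert e1 (W0 : Set Y)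
  let D := Subgroup.closure S
  have hWD : W0 ≤ D := fun x hx => Subgroup.subset_closure (Or.inr hx)
  have hCD : C ≤ D := fun c hc => hWD (hUW hc.1)
  let K : Subgroup D := C.subgroupOf D
  have hDC : ∀ d ∈ D, ∀ c ∈ C, d * c = c * d := by
    intro d hd c hc
    have hle : D ≤ Subgroup.centralizer (C : Set Y) := by
      refine (Subgroup.closure_le _).2 ?_
      rintro x (rfl | hx) c hc
      · exact (mem_Cfix.1 hc).2.symm
      · exact (hcen c (mem_Cfix.1 hc).1 x hx.1).symm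
    exact (hle hd c hc).symm
  haveI : K.Normal := ⟨fun k hk d => by
    have e : d * k = k * d := Subtype.ext (hDC d d.2 k hk)
    rw [e, mul_inv_cancel_right]
    exact hk⟩
  let p : D →* D ⧸ K := QuotientGroup.mk' K
  have hp1 : ∀ x : D, (x : Y) ∈ C → p x = 1 := fun x hx => (QuotientGroup.eq_one_iff x).2 hx
  let S' : Set D := {x | (x : Y) ∈ S}
  have hS' : Subgroup.closure S' = ⊤ := Subgroup.closure_closure_coe_preimage (k := S)
  have hsqS : ∀ x ∈ S', p x * p x = 1 := fun x hx => by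
    rw [← map_mul]
    refine hp1 _ ?_
    rw [Subgroup.coe_mul]
    rcases hx with h | h
    · rw [h]; exact hCsq
    · exact hW0sq _ h
  have hcm : ∀ x ∈ S', ∀ x' ∈ S', p (x⁻¹ * x'⁻¹ * x * x') = 1 := fun x hx x' hx' => by
    refine hp1 _ ?_
    simp only [Subgroup.coe_mul, Subgroup.coe_inv]
    rcases hx with h | h <;> rcases hx' with h' | h'
    · rw [h, h']; simp
    · rw [h]
      have := inv_mem (hCconj _ h')
      simpa [mul_assoc] using this
    · rw [h']; exact hCconj _ h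
    · rw [show (x : Y)⁻¹ * (x' : Y)⁻¹ * x * x' = ((x : Y)⁻¹ * (x : Y)⁻¹) * (((x : Y) * (x' : Y)⁻¹) * ((x : Y) * (x' : Y)⁻¹))
        * ((x' : Y) * x') by simp [mul_assoc]]
      exact mul_mem (mul_mem (hW0sq _ (inv_mem h)) (hW0sq _ (mul_mem h (inv_mem h')))) (hW0sq _ h')
  have hcommS : ∀ a ∈ p '' S', ∀ b ∈ p '' S', a * b = b * a := by
    rintro _ ⟨x, hx, rfl⟩ _ ⟨x', hx', rfl⟩
    have h := hcm x hx x' hx'
    rw [map_mul, map_mul, map_mul, map_inv, map_inv, inv_eq_of_mul_eq_one_right (hsqS x hx),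
      inv_eq_of_mul_eq_one_right (hsqS x' hx')] at h
    calc p x * p x' = (p x * p x')⁻¹ :=
          (inv_eq_of_mul_eq_one_right (by simpa [mul_assoc] using h)).symm
      _ = p x' * p x := by
          rw [mul_inv_rev, inv_eq_of_mul_eq_one_right (hsqS x hx), inv_eq_of_mul_eq_one_right (hsqS x' hx')]
  have htop : Subgroup.closure (p '' S') = ⊤ := by
    rw [← MonoidHom.map_closure, hS', Subgroup.map_top_of_surjective _ (QuotientGroup.mk'_surjective K)]
  haveI hQc : IsMulCommutative (Subgroup.closure (p '' S')) := Subgroup.isMulCommutative_closure hcommS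
  have hQc' : ∀ a b : D ⧸ K, a * b = b * a := fun a b =>
    congrArg Subtype.val (hQc.is_comm.comm ⟨a, htop ▸ Subgroup.mem_top a⟩ ⟨b, htop ▸ Subgroup.mem_top b⟩)
  have hexpQ : ∀ a : D ⧸ K, a ^ 2 = 1 := fun a => by
    induction (htop ▸ Subgroup.mem_top a : a ∈ Subgroup.closure (p '' S')) using Subgroup.closure_induction with
    | mem x hx => obtain ⟨x, hx', rfl⟩ := hx; rw [pow_two, hsqS x hx']
    | one => exact one_pow 2
    | mul x y _ _ hx hy => rw [Commute.mul_pow (hQc' x y), hx, hy, one_mul]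
    | inv x _ hx => rw [inv_pow, hx, inv_one]
  have hbound := hsr D K ⊤ ⟨⟨fun a b => Subtype.ext (hQc' a b)⟩⟩ fun a _ => hexpQ a
  rw [Subgroup.card_top] at hbound
  have h128 : 128 ≤ Nat.card D := by
    have h := Nat.card_le_card_of_injective (fun q : Bool × W0 =>
      (⟨(if q.1 then e1 else 1) * q.2.1, mul_mem (by
        split_ifs
        · exact Subgroup.subset_closure (Or.inl rfl)
        · exact one_mem _) (hWD q.2.2)⟩ : D)) ?_
    · rw [Nat.card_prod, hW0card, Nat.card_eq_fintype_card, Fintype.card_bool] at h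
      exact h
    · rintro ⟨a, u⟩ ⟨b, w⟩ h
      have h' := congrArg Subtype.val h
      cases a <;> cases b
      · simp at h'; exact Prod.ext rfl h'
      · simp at h'
        exact absurd ((Subgroup.mul_mem_cancel_right Q w.2.1).1 (h' ▸ u.2.1)) he1Q
      · simp at h'
        exact absurd ((Subgroup.mul_mem_cancel_right Q u.2.1).1 (h'.symm ▸ w.2.1)) he1Q
      · simp at h'; exact Prod.ext rfl h'
  have hK : Nat.card K = 4 := by
    rw [Nat.card_congr (Subgroup.subgroupOfEquivOfLe hCD).toEquiv, hCU', hCU]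
  have hmul := K.card_mul_index
  rw [Subgroup.index_eq_card, hK] at hmul
  have h4 : Nat.card (D ⧸ K) ≤ 16 := by simpa using hbound
  omega

end Cfsg.Agent.A5Radical
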